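import Groth.Agent.H78.Formal.Uniform
import Groth.Prelude.Def_ClSub2

/-!
# The torsion part of a map of towers meets high powers of an ideal trivially
-/

set_option linter.style.haveILetI false
set_option linter.unusedSectionVars false

noncomputable section

universe u v

open CategoryTheory Limits AlgebraicGeometry Opposite TopologicalSpace

namespace Groth.Agent.H78.Proper.InfBound

open Groth.Agent.H78.Formal

section Algebra

variable {B : Type u} [CommRing B] (I : Ideal B) [IsNoetherianRing B]
variable {M M' : ℕ → Type v} [∀ n, AddCommGroup (M n)] [∀ n, Module B (M n)]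
  [∀ n, AddCommGroup (M' n)] [∀ n, Module B (M' n)]
variable {f : ∀ n, M (n + 1) →ₗ[B] M n} {f' : ∀ n, M' (n + 1) →ₗ[B] M' n}

/-- If `K^t` kills the kernels of `α`, then for `e ≫ 0` an element of `K^e M (n+k)` killed by `α`
vanishes in degree `n`. -/
theorem exists_inf_bound (hM : Model.IsFormalTower I f) (hM' : Model.IsFormalTower I f')
    (α : ∀ n, M n →ₗ[B] M' n) (hα : ∀ n x, f' n (α (n + 1) x) = α n (f n x)) (K : Ideal B) (t : ℕ)
    (ht : ∀ n, ∀ x : M n, α n x = 0 → ∀ r ∈ K ^ t, r • x = 0) :
    ∃ e k : ℕ, ∀ (n : ℕ) (z : ∀ m, M m), (∀ m, f m (z (m + 1)) = z m) →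
      z (n + k) ∈ K ^ e • (⊤ : Submodule B (M (n + k))) → α (n + k) (z (n + k)) = 0 → z n = 0 := by
  obtain ⟨mod, F, hmod, hF, hfin, hker⟩ := Model.exists_complete hM
  obtain ⟨mod', F', hmod', hF', hfin', hker'⟩ := Model.exists_complete hM'
  letI := mod
  letI := mod'
  let αR : ∀ n, M n →ₗ[AdicCompletion I B] M' n := fun n =>
    { toFun := α n
      map_add' := map_add _
      map_smul' := fun r x => by
        have := Model.map_completion_smul (Or.inl rfl) (hM.killed n) (hM'.killed n) (α n) r x
        rw [← hmod, ← hmod'] at this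
        exact this }
  let φ : Tower.limMod F →ₗ[AdicCompletion I B] Tower.limMod F' :=
    LinearMap.codRestrict _ ((LinearMap.pi fun n => (αR n).comp (LinearMap.proj n)).comp
      (Tower.limMod F).subtype) fun z n => by
        change F' n (α (n + 1) (z.1 (n + 1))) = α n (z.1 n)
        rw [hF', hα, ← hF, z.2 n]
  haveI : IsNoetherian (AdicCompletion I B) (Tower.limMod F) := isNoetherian_of_isNoetherianRing_of_finite _ _
  haveI : IsNoetherian (AdicCompletion I B) (Tower.limMod F') := isNoetherian_of_isNoetherianRing_of_finite _ _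
  set J := I.map (algebraMap B (AdicCompletion I B))
  set P := K.map (algebraMap B (AdicCompletion I B))
  have halg : ∀ (n : ℕ) (b : B) (x : M n), algebraMap B (AdicCompletion I B) b • x = b • x := fun n b x => by
    have e := Model.completion_algebraMap_smul I (hM.killed n) b x
    rw [← hmod] at e
    exact e
  obtain ⟨c, hc⟩ := Ideal.exists_pow_inf_eq_pow_smul P (LinearMap.ker φ)
  have h0 : ∀ z ∈ P ^ (c + t) • (⊤ : Submodule (AdicCompletion I B) (Tower.limMod F)), φ z = 0 → z = 0 := by
    intro z hz hz0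
    have h1 : z ∈ P ^ (c + t) • (⊤ : Submodule (AdicCompletion I B) (Tower.limMod F)) ⊓ LinearMap.ker φ :=
      ⟨hz, hz0⟩
    rw [hc _ (Nat.le_add_right c t), Nat.add_sub_cancel_left] at h1
    have h2 : P ^ t • LinearMap.ker φ ≤ ⊥ := by
      refine Submodule.smul_le.2 fun r hr x hx => ?_
      rw [← Ideal.map_pow] at hr
      have h3 : (K ^ t).map (algebraMap B (AdicCompletion I B)) ≤
          LinearMap.ker (LinearMap.toSpanSingleton (AdicCompletion I B) (Tower.limMod F) x) :=
        Ideal.map_le_iff_le_comap.2 fun b hb => by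
          change algebraMap B (AdicCompletion I B) b • x = 0
          refine Subtype.ext (funext fun m => ?_)
          exact (halg m b (x.1 m)).trans (ht m _ (congrArg (fun y : Tower.limMod F' => y.1 m) hx) b hb)
      exact h3 hr
    exact (Submodule.mem_bot _).1 (h2 (Submodule.smul_mono le_rfl inf_le_right h1))
  obtain ⟨k, hk⟩ := Ideal.exists_pow_inf_eq_pow_smul J
    ((P ^ (c + t) • (⊤ : Submodule (AdicCompletion I B) (Tower.limMod F))).map φ)
  refine ⟨c + t, k, fun n z hz hzK hz0 => ?_⟩
  -- an element of `P^e L` with the same component in degree `n + k`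
  obtain ⟨w, hwK, hw⟩ : ∃ w ∈ P ^ (c + t) • (⊤ : Submodule (AdicCompletion I B) (Tower.limMod F)),
      w.1 (n + k) = z (n + k) := by
    refine Submodule.smul_induction_on hzK (fun b hb x _ => ?_) ?_
    · obtain ⟨y, hy⟩ := Tower.exists_mem_limMod F (fun m x => by
        obtain ⟨v, hv⟩ := hM.surjective m x
        exact ⟨v, (hF m v).trans hv⟩) (n + k) x
      refine ⟨algebraMap B (AdicCompletion I B) b • y, Submodule.smul_mem_smul ?_ trivial, ?_⟩
      · rw [← Ideal.map_pow]; exact Ideal.mem_map_of_mem _ hb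
      · exact (halg (n + k) b _).trans (congrArg (b • ·) hy)
    · rintro _ _ ⟨w, hw, rfl⟩ ⟨w', hw', rfl⟩
      exact ⟨w + w', add_mem hw hw', rfl⟩
  have h1 : φ w ∈ J ^ (n + k + 1) • (⊤ : Submodule (AdicCompletion I B) (Tower.limMod F')) ⊓
      (P ^ (c + t) • (⊤ : Submodule (AdicCompletion I B) (Tower.limMod F))).map φ := by
    refine ⟨?_, w, hwK, rfl⟩
    rw [← hker']
    change α (n + k) (w.1 (n + k)) = 0
    rw [hw, hz0]
  rw [hk _ (by omega), show n + k + 1 - k = n + 1 by omega] at h1
  have h2 := Submodule.smul_mono le_rfl inf_le_right h1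
  rw [← Submodule.map_smul''] at h2
  obtain ⟨v, hv, hve⟩ := h2
  have hvK : v ∈ P ^ (c + t) • (⊤ : Submodule (AdicCompletion I B) (Tower.limMod F)) :=
    (Submodule.smul_le_right : J ^ (n + 1) • (P ^ (c + t) • (⊤ : Submodule (AdicCompletion I B)
      (Tower.limMod F))) ≤ _) hv
  have hwv : w = v := sub_eq_zero.1 (h0 _ (sub_mem hwK hvK) (by rw [map_sub, hve, sub_self]))
  have hw0 : w.1 n = 0 := by
    have h3 : w ∈ J ^ (n + 1) • (⊤ : Submodule (AdicCompletion I B) (Tower.limMod F)) :=
      hwv ▸ Submodule.smul_mono le_rfl le_top hv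
    rw [← hker] at h3
    exact h3
  have down : ∀ j, w.1 (n + j) = z (n + j) → w.1 n = z n := by
    intro j
    induction j with
    | zero => exact id
    | succ j ih =>
      intro h
      refine ih ?_
      rw [← hz (n + j), ← w.2 (n + j), hF]
      exact congrArg _ h
  exact (down k hw).symm.trans hw0

end Algebra

section Sheaf

open Groth.Agent.Lib Groth.Agent.Lib.CohBasics.Affine Groth.Agent.H78.Formal.Sections
  Groth.Agent.H78.Formal.Elem Groth.Agent.H78.Formal.Uniform

variable {A : Type u} [CommRing A] {X : Scheme.{u}} [X.Over (Spec (CommRingCat.of A))] [IsNoetherian X]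
variable {I : Ideal A} {F G : ℕᵒᵖ ⥤ X.Modules}

/-- Uniformly in `n`, `K^e F (n+e)` meets the kernel of `α` in classes vanishing in degree `n`. -/
theorem exists_uniform_bound (hF : _root_.Formal.IsCohFormal I F) (hG : _root_.Formal.IsCohFormal I G)
    (α : F ⟶ G) (K : X.IdealSheafData) (t : ℕ)
    (ht : ∀ n, _root_.ClSub.KilledByIdeal (K ^ t) (kernel (α.app (op n)))) :
    ∃ e : ℕ, ∀ x : X, ∃ U : X.affineOpens, x ∈ U.1 ∧ ∀ (n : ℕ) (f : Γ(F.obj (op (n + e)), U.1)),
      f ∈ (K ^ e).ideal U • (⊤ : Submodule Γ(X, U.1) Γ(F.obj (op (n + e)), U.1)) →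
      (α.app (op (n + e))).app U.1 f = 0 → tr F U.1 (Nat.le_add_right n e) f = 0 := by
  obtain ⟨e, he⟩ := exists_uniform (X := X)
    (fun U e => ∀ hU : IsAffineOpen U, ∀ (n : ℕ) (f : Γ(F.obj (op (n + e)), U)),
      f ∈ (K ^ e).ideal ⟨U, hU⟩ • (⊤ : Submodule Γ(X, U) Γ(F.obj (op (n + e)), U)) →
      (α.app (op (n + e))).app U f = 0 → tr F U (Nat.le_add_right n e) f = 0)
    (fun U m m' h hm hU n f hf hf0 => by
      have hle : n + m ≤ n + m' := by omega
      have h1 : tr F U hle f ∈ (K ^ m').ideal ⟨U, hU⟩ • (⊤ : Submodule Γ(X, U) Γ(F.obj (op (n + m)), U)) := by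
        have := Submodule.mem_map_of_mem (f := tr F U hle) hf
        rw [Submodule.map_smul''] at this
        exact Submodule.smul_mono le_rfl le_top this
      have h2 : (K ^ m').ideal ⟨U, hU⟩ ≤ (K ^ m).ideal ⟨U, hU⟩ := by
        simp only [Scheme.IdealSheafData.ideal_pow, Pi.pow_apply]
        exact Ideal.pow_le_pow_right h
      have h3 := hm hU n (tr F U hle f) (Submodule.smul_mono_left h2 h1)
        (by rw [app_tr, hf0, map_zero])
      rwa [tr_tr] at h3)
    fun U hU => by
      haveI := IsLocallyNoetherian.component_noetherian (X := X) ⟨U, hU⟩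
      obtain ⟨e, k, hek⟩ := exists_inf_bound (sIdeal I U) (isFormalTower hF hU) (isFormalTower hG hU)
        (fun n => secₗ (α.app (op n)) U) (fun n s => (app_tr α (Nat.le_succ n) s).symm)
        (K.ideal ⟨U, hU⟩) t (fun n x hx r hr => by
          obtain ⟨s, rfl⟩ := exists_kernel_section (α.app (op n)) x hx
          rw [← (kernel.ι (α.app (op n))).app_smul]
          have h4 : r • s = 0 := ht n ⟨U, hU⟩ r
            (by simpa only [Scheme.IdealSheafData.ideal_pow, Pi.pow_apply] using hr) s
          rw [h4]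
          exact map_zero _)
      refine ⟨max e k, fun hU' n f hf hf0 => ?_⟩
      have hle : n + k ≤ n + max e k := by omega
      obtain ⟨z, hz, hzf⟩ := exists_compat hF hU (n + max e k) f
      have hzk : z (n + k) = tr F U hle f := by rw [← hzf]; exact (tr_compat z hz hle).symm
      have h1 : z (n + k) ∈ K.ideal ⟨U, hU⟩ ^ e • (⊤ : Submodule Γ(X, U) Γ(F.obj (op (n + k)), U)) := by
        rw [hzk]
        have := Submodule.mem_map_of_mem (f := tr F U hle) hf
        rw [Submodule.map_smul''] at this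
        simp only [Scheme.IdealSheafData.ideal_pow, Pi.pow_apply] at this
        exact Submodule.smul_mono (Ideal.pow_le_pow_right (le_max_left _ _)) le_top this
      have h2 := hek n z hz h1 (by rw [secₗ_apply, hzk, app_tr, hf0, map_zero])
      rw [← hzf, tr_compat z hz (Nat.le_add_right n (max e k))]
      exact h2
  refine ⟨e, fun x => ?_⟩
  obtain ⟨U, hU, hx, h⟩ := he x
  exact ⟨⟨U, hU⟩, hx, h hU⟩

end Sheaf

end Groth.Agent.H78.Proper.InfBound
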