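import Groth.Agent.H78.Formal.Extend
import Groth.Agent.H78.Formal.Compl
import Groth.Agent.H78.Formal.Elem
import Groth.Agent.Lib.ZarCoh.PushKilled
import Groth.Agent.Lib.Cyc.PP.Push
import Groth.Agent.H30.ModThick

/-!
# Direct images along closed immersions and the reduction modulo an ideal sheaf
-/

set_option linter.style.haveILetI false

noncomputable section

universe u

open CategoryTheory Limits AlgebraicGeometry Opposite TopologicalSpace

namespace Groth.Agent.H78.Proper.PushQuot

open Groth.Agent.Lib Groth.Agent.Lib.CohBasics.Affine Groth.Agent.H78.Formal.Sections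
  Groth.Agent.H78.Formal.Elem

variable {A : Type u} [CommRing A] {Z X : Scheme.{u}} [Z.Over (Spec (CommRingCat.of A))]
  [X.Over (Spec (CommRingCat.of A))] (i : Z ⟶ X) [IsClosedImmersion i]

/-- The reduction modulo the ideal of a closed subscheme. -/
abbrev red (M : X.Modules) : X.Modules :=
  (Scheme.Modules.pushforward i).obj ((Scheme.Modules.pullback i).obj M)

/-- The projection to the reduction. -/
abbrev η (M : X.Modules) : M ⟶ red i M :=
  (Scheme.Modules.pullbackPushforwardAdjunction i).unit.app M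

lemma isQCoh_push (M : Z.Modules) [M.IsQuasicoherent] :
    ((Scheme.Modules.pushforward i).obj M).IsQuasicoherent :=
  QCoh.Pushforward.isQCoh_pushforward i (M := M)

lemma isQCoh_red (M : X.Modules) [M.IsQuasicoherent] : (red i M).IsQuasicoherent :=
  haveI := QCoh.Pullback.isQCoh_pullback i M
  isQCoh_push i _

lemma isCoh_red [IsLocallyNoetherian X] {M : X.Modules} (hM : Coh.IsCoh M) : Coh.IsCoh (red i M) :=
  haveI := LocallyOfFiniteType.isLocallyNoetherian i
  Cyc.PP.Push.isCoh_push i (Formal.Extend.isCoh_pull i hM)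

lemma η_surjective (M : X.Modules) [M.IsQuasicoherent] {U : X.Opens} (hU : IsAffineOpen U) :
    Function.Surjective ((η i M).app U) :=
  haveI := isQCoh_red i M
  haveI := PushClosed.Unit.epi_unit i M
  QCoh.Closure.sections_surjective_of_epi (η i M) hU

lemma killedByIdeal_push (N : Z.Modules) :
    _root_.ClSub.KilledByIdeal i.ker ((Scheme.Modules.pushforward i).obj N) := by
  intro U r hr s
  rw [Scheme.Hom.ker_apply, RingHom.mem_ker] at hr
  change (show Γ(Z, i ⁻¹ᵁ U.1) from (i.app U.1).hom r) • (show Γ(N, i ⁻¹ᵁ U.1) from s) = 0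
  rw [hr, zero_smul]

lemma η_eq_zero (M : X.Modules) [M.IsQuasicoherent] {U : X.Opens} (hU : IsAffineOpen U) (s : Γ(M, U))
    (hs : (η i M).app U s = 0) :
    s ∈ i.ker.ideal ⟨U, hU⟩ • (⊤ : Submodule Γ(X, U) Γ(M, U)) := by
  let adj := Scheme.Modules.pullbackPushforwardAdjunction i
  haveI := isQCoh_red i M
  haveI := QCoh.Closure.isQCoh_kernel (η i M)
  obtain ⟨t, rfl⟩ := exists_kernel_section (η i M) s hs
  refine H30.ModThick.app_mem_ideal_smul_top i (kernel.ι (η i M)) ?_ hU t
  haveI := adj.isLeftAdjoint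
  have h1 : (Scheme.Modules.pullback i).map (kernel.ι (η i M)) ≫ (Scheme.Modules.pullback i).map (η i M) = 0 := by
    rw [← Functor.map_comp, kernel.condition, Functor.map_zero]
  calc (Scheme.Modules.pullback i).map (kernel.ι (η i M))
      = (Scheme.Modules.pullback i).map (kernel.ι (η i M)) ≫
          (Scheme.Modules.pullback i).map (η i M) ≫ adj.counit.app _ := by
        rw [adj.left_triangle_components M]; exact (Category.comp_id _).symm
    _ = 0 := by rw [← Category.assoc, h1, zero_comp]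

lemma η_eq_zero_iff (M : X.Modules) [M.IsQuasicoherent] {U : X.Opens} (hU : IsAffineOpen U) (s : Γ(M, U)) :
    (η i M).app U s = 0 ↔ s ∈ i.ker.ideal ⟨U, hU⟩ • (⊤ : Submodule Γ(X, U) Γ(M, U)) := by
  refine ⟨η_eq_zero i M hU s, fun h => ?_⟩
  have hle : i.ker.ideal ⟨U, hU⟩ • (⊤ : Submodule Γ(X, U) Γ(M, U)) ≤ LinearMap.ker (secₗ (η i M) U) :=
    Submodule.smul_le.2 fun r hr m _ => by
      rw [LinearMap.mem_ker, map_smul]
      exact killedByIdeal_push i _ ⟨U, hU⟩ r hr _
  have h5 := hle h
  rw [LinearMap.mem_ker, secₗ_apply] at h5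
  exact h5

section Base

variable {i} (hi : i ≫ (X ↘ Spec (CommRingCat.of A)) = Z ↘ Spec (CommRingCat.of A))
include hi

/-- Extended ideals of the base correspond. -/
lemma mem_push_smul_top {N : Z.Modules} (J : Ideal A) {U : X.Opens} (hU : IsAffineOpen U)
    (s : Γ(N, i ⁻¹ᵁ U)) :
    s ∈ sIdeal J (i ⁻¹ᵁ U) • (⊤ : Submodule Γ(Z, i ⁻¹ᵁ U) Γ(N, i ⁻¹ᵁ U)) ↔
      (show Γ((Scheme.Modules.pushforward i).obj N, U) from s) ∈
        sIdeal J U • (⊤ : Submodule Γ(X, U) Γ((Scheme.Modules.pushforward i).obj N, U)) := by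
  constructor
  · intro hs
    refine Submodule.smul_induction_on hs (fun r hr m _ => ?_) fun a b ha hb => add_mem ha hb
    induction hr using Submodule.span_induction generalizing m with
    | mem x hx =>
      obtain ⟨a, ha, rfl⟩ := hx
      have e : (show Γ((Scheme.Modules.pushforward i).obj N, U) from sMap A (i ⁻¹ᵁ U) a • m) =
          sMap A U a • (show Γ((Scheme.Modules.pushforward i).obj N, U) from m) :=
        congrArg (fun r : Γ(Z, i ⁻¹ᵁ U) => @HSMul.hSMul Γ(Z, i ⁻¹ᵁ U) Γ(N, i ⁻¹ᵁ U) _ _ r m)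
          (Formal.PullSys.sMap_app hi U a).symm
      exact e ▸ Submodule.smul_mem_smul (mem_sIdeal ha) trivial
    | zero => rw [zero_smul]; exact zero_mem _
    | add x y _ _ hx hy => rw [add_smul]; exact add_mem (hx m trivial) (hy m trivial)
    | smul x y _ hy => rw [smul_eq_mul, mul_comm, mul_smul]; exact hy (x • m) trivial
  · intro hs
    let T : AddSubmonoid Γ((Scheme.Modules.pushforward i).obj N, U) :=
      { carrier := {z | (show Γ(N, i ⁻¹ᵁ U) from z) ∈ sIdeal J (i ⁻¹ᵁ U) • (⊤ : Submodule Γ(Z, i ⁻¹ᵁ U) Γ(N, i ⁻¹ᵁ U))}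
        add_mem' := fun ha hb =>
          Submodule.add_mem (sIdeal J (i ⁻¹ᵁ U) • (⊤ : Submodule Γ(Z, i ⁻¹ᵁ U) Γ(N, i ⁻¹ᵁ U))) ha hb
        zero_mem' := Submodule.zero_mem (sIdeal J (i ⁻¹ᵁ U) • (⊤ : Submodule Γ(Z, i ⁻¹ᵁ U) Γ(N, i ⁻¹ᵁ U))) }
    suffices h : ∀ z ∈ sIdeal J U • (⊤ : Submodule Γ(X, U) Γ((Scheme.Modules.pushforward i).obj N, U)), z ∈ T
      from h _ hs
    intro z hz
    refine Submodule.smul_induction_on hz (fun r hr m _ => ?_) fun a b ha hb => add_mem ha hb
    change (show Γ(Z, i ⁻¹ᵁ U) from (i.app U).hom r) • (show Γ(N, i ⁻¹ᵁ U) from m) ∈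
      sIdeal J (i ⁻¹ᵁ U) • (⊤ : Submodule Γ(Z, i ⁻¹ᵁ U) Γ(N, i ⁻¹ᵁ U))
    refine Submodule.smul_mem_smul ?_ trivial
    have hle : sIdeal J U ≤ (sIdeal J (i ⁻¹ᵁ U)).comap (i.app U).hom :=
      Ideal.map_le_iff_le_comap.2 fun a ha => by
        change (i.app U).hom (sMap A U a) ∈ sIdeal J (i ⁻¹ᵁ U)
        rw [show (i.app U).hom (sMap A U a) = sMap A (i ⁻¹ᵁ U) a from Formal.PullSys.sMap_app hi U a]
        exact mem_sIdeal ha
    exact hle hr

variable {I : Ideal A}

lemma killedBy_push {J : Ideal A} {N : Z.Modules} (h : _root_.Formal.KilledBy J N) :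
    _root_.Formal.KilledBy J ((Scheme.Modules.pushforward i).obj N) := fun a ha => by
  rw [← Formal.PullSys.smulMod_pushforward hi, h a ha, Functor.map_zero]

variable [IsLocallyNoetherian X]

theorem isCohFormal_push {G : ℕᵒᵖ ⥤ Z.Modules} (hG : _root_.Formal.IsCohFormal I G) :
    _root_.Formal.IsCohFormal I (G ⋙ Scheme.Modules.pushforward i) := by
  haveI := LocallyOfFiniteType.isLocallyNoetherian i
  haveI := fun n => Formal.Sys.qcoh hG n
  haveI := fun n => isQCoh_push i (G.obj (op n))
  refine ⟨fun n => Cyc.PP.Push.isCoh_push i (hG.1 n), fun n => killedBy_push hi (hG.2.1 n), fun n => ?_⟩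
  refine Formal.Sys.exists_isIso_desc (M := (Scheme.Modules.pushforward i).obj (G.obj (op (n + 1))))
    (N := (Scheme.Modules.pushforward i).obj (G.obj (op n))) (I ^ (n + 1))
    ((Scheme.Modules.pushforward i).map (G.map (homOfLE (Nat.le_succ n)).op))
    (fun U hU => (Formal.Sys.succ_spec hG n (hU.preimage i)).1) fun U hU s => ?_
  refine ((Formal.Sys.succ_spec hG n (hU.preimage i)).2 s).trans ?_
  rw [← sIdeal_pow]
  exact mem_push_smul_top hi (I ^ (n + 1)) hU s

/-- Direct images along closed immersions commute with completion. -/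
theorem nonempty_completion_iso {M : Z.Modules} (hM : Coh.IsCoh M) :
    Nonempty (_root_.Formal.completion I ((Scheme.Modules.pushforward i).obj M) ≅
      _root_.Formal.completion I M ⋙ Scheme.Modules.pushforward i) := by
  haveI := LocallyOfFiniteType.isLocallyNoetherian i
  haveI := hM.1
  haveI := isQCoh_push i M
  have hC := Formal.Compl.isCohFormal_completion I hM
  obtain ⟨β, -⟩ := Formal.Sys.exists_completion_iso (M := (Scheme.Modules.pushforward i).obj M)
    (isCohFormal_push hi hC)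
    (fun n => (Scheme.Modules.pushforward i).map (_root_.Formal.modPowπ I (n + 1) M))
    (fun n => by
      rw [Functor.comp_map, ← Functor.map_comp,
        show (_root_.Formal.completion I M).map (homOfLE (Nat.le_succ n)).op =
          _root_.Formal.modPowTrans I (n + 1) M from Functor.ofOpSequence_map_homOfLE_succ _ n]
      exact congrArg _ (_root_.Formal.modPowπ_trans I (n + 1) M))
    (fun n U hU => modPowπ_surjective (M := M) I (n + 1) (hU.preimage i))
    (fun n U hU s => by
      refine (modPowπ_eq_zero_iff (M := M) I (n + 1) (hU.preimage i) s).trans ?_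
      rw [← sIdeal_pow, ← sIdeal_pow]
      exact mem_push_smul_top hi (I ^ (n + 1)) hU s)
  exact ⟨β⟩

end Base

end Groth.Agent.H78.Proper.PushQuot
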