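import Groth.Agent.H78.Proper.Exact
import Groth.Agent.H78.Proper.InfBound
import Groth.Agent.H78.Proper.PushQuot
import Groth.Agent.H78.Existence.Construct

/-!
# Algebraization from algebraization modulo powers of an ideal sheaf
-/

set_option linter.style.haveILetI false

noncomputable section

universe u

open CategoryTheory Limits AlgebraicGeometry Opposite TopologicalSpace

namespace Groth.Agent.H78.Proper.Tricky

open Groth.Agent.Lib Groth.Agent.Lib.CohBasics.Affine Groth.Agent.H78.Formal.Sections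
  Groth.Agent.H78.Formal.Elem

variable {A : Type u} [CommRing A] {X : Scheme.{u}} [X.Over (Spec (CommRingCat.of A))]
variable {I : Ideal A}

/-- The sum of two systems. -/
def sum (F G : ℕᵒᵖ ⥤ X.Modules) : ℕᵒᵖ ⥤ X.Modules :=
  Functor.ofOpSequence (X := fun n => F.obj (op n) ⊞ G.obj (op n)) fun n =>
    biprod.map (F.map (homOfLE (Nat.le_succ n)).op) (G.map (homOfLE (Nat.le_succ n)).op)

section Sum

variable (F G : ℕᵒᵖ ⥤ X.Modules) (n : ℕ)

/-- The inclusion of the first summand. -/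
def inl : F.obj (op n) ⟶ (sum F G).obj (op n) := (biprod.inl : F.obj (op n) ⟶ F.obj (op n) ⊞ G.obj (op n))

/-- The inclusion of the second summand. -/
def inr : G.obj (op n) ⟶ (sum F G).obj (op n) := (biprod.inr : G.obj (op n) ⟶ F.obj (op n) ⊞ G.obj (op n))

/-- The first projection. -/
def fst : (sum F G).obj (op n) ⟶ F.obj (op n) := (biprod.fst : F.obj (op n) ⊞ G.obj (op n) ⟶ F.obj (op n))

/-- The second projection. -/
def snd : (sum F G).obj (op n) ⟶ G.obj (op n) := (biprod.snd : F.obj (op n) ⊞ G.obj (op n) ⟶ G.obj (op n))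

variable {F G n}

/-- Maps into the sum. -/
def lift {W : X.Modules} (f : W ⟶ F.obj (op n)) (g : W ⟶ G.obj (op n)) : W ⟶ (sum F G).obj (op n) :=
  (biprod.lift f g : W ⟶ F.obj (op n) ⊞ G.obj (op n))

/-- Maps out of the sum. -/
def desc {W : X.Modules} (f : F.obj (op n) ⟶ W) (g : G.obj (op n) ⟶ W) : (sum F G).obj (op n) ⟶ W :=
  (biprod.desc f g : F.obj (op n) ⊞ G.obj (op n) ⟶ W)

@[reassoc (attr := simp)]
lemma lift_fst {W : X.Modules} (f : W ⟶ F.obj (op n)) (g : W ⟶ G.obj (op n)) : lift f g ≫ fst F G n = f :=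
  biprod.lift_fst f g

@[reassoc (attr := simp)]
lemma lift_snd {W : X.Modules} (f : W ⟶ F.obj (op n)) (g : W ⟶ G.obj (op n)) : lift f g ≫ snd F G n = g :=
  biprod.lift_snd f g

@[reassoc (attr := simp)]
lemma inl_desc {W : X.Modules} (f : F.obj (op n) ⟶ W) (g : G.obj (op n) ⟶ W) : inl F G n ≫ desc f g = f :=
  biprod.inl_desc f g

@[reassoc (attr := simp)]
lemma inr_desc {W : X.Modules} (f : F.obj (op n) ⟶ W) (g : G.obj (op n) ⟶ W) : inr F G n ≫ desc f g = g :=
  biprod.inr_desc f g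

@[reassoc (attr := simp)]
lemma inl_fst : inl F G n ≫ fst F G n = 𝟙 _ := biprod.inl_fst

@[reassoc (attr := simp)]
lemma inl_snd : inl F G n ≫ snd F G n = 0 := biprod.inl_snd

@[reassoc (attr := simp)]
lemma inr_fst : inr F G n ≫ fst F G n = 0 := biprod.inr_fst

@[reassoc (attr := simp)]
lemma inr_snd : inr F G n ≫ snd F G n = 𝟙 _ := biprod.inr_snd

lemma hom_ext {W : X.Modules} {f g : W ⟶ (sum F G).obj (op n)} (h₁ : f ≫ fst F G n = g ≫ fst F G n)
    (h₂ : f ≫ snd F G n = g ≫ snd F G n) : f = g :=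
  biprod.hom_ext f g h₁ h₂

lemma hom_ext' {W : X.Modules} {f g : (sum F G).obj (op n) ⟶ W} (h₁ : inl F G n ≫ f = inl F G n ≫ g)
    (h₂ : inr F G n ≫ f = inr F G n ≫ g) : f = g :=
  biprod.hom_ext' f g h₁ h₂

lemma sum_map (F G : ℕᵒᵖ ⥤ X.Modules) (n : ℕ) : (sum F G).map (homOfLE (Nat.le_succ n)).op =
    biprod.map (F.map (homOfLE (Nat.le_succ n)).op) (G.map (homOfLE (Nat.le_succ n)).op) :=
  Functor.ofOpSequence_map_homOfLE_succ _ n

@[reassoc]
lemma map_fst : (sum F G).map (homOfLE (Nat.le_succ n)).op ≫ fst F G n =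
    fst F G (n + 1) ≫ F.map (homOfLE (Nat.le_succ n)).op := by
  rw [sum_map]; exact biprod.map_fst _ _

@[reassoc]
lemma map_snd : (sum F G).map (homOfLE (Nat.le_succ n)).op ≫ snd F G n =
    snd F G (n + 1) ≫ G.map (homOfLE (Nat.le_succ n)).op := by
  rw [sum_map]; exact biprod.map_snd _ _

@[reassoc]
lemma inl_map : inl F G (n + 1) ≫ (sum F G).map (homOfLE (Nat.le_succ n)).op =
    F.map (homOfLE (Nat.le_succ n)).op ≫ inl F G n := by
  rw [sum_map]; exact biprod.inl_map _ _

@[reassoc]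
lemma inr_map : inr F G (n + 1) ≫ (sum F G).map (homOfLE (Nat.le_succ n)).op =
    G.map (homOfLE (Nat.le_succ n)).op ≫ inr F G n := by
  rw [sum_map]; exact biprod.inr_map _ _

lemma ext {U : X.Opens} {w w' : Γ((sum F G).obj (op n), U)}
    (h₁ : (fst F G n).app U w = (fst F G n).app U w') (h₂ : (snd F G n).app U w = (snd F G n).app U w') : w = w' :=
  biprod_ext (M := F.obj (op n)) (N := G.obj (op n)) h₁ h₂

lemma exists_pair {U : X.Opens} (x : Γ(F.obj (op n), U)) (y : Γ(G.obj (op n), U)) :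
    ∃ w : Γ((sum F G).obj (op n), U), (fst F G n).app U w = x ∧ (snd F G n).app U w = y :=
  exists_biprod (M := F.obj (op n)) (N := G.obj (op n)) x y

lemma inl_inr {U : X.Opens} (w : Γ((sum F G).obj (op n), U)) :
    w = (inl F G n).app U ((fst F G n).app U w) + (inr F G n).app U ((snd F G n).app U w) :=
  (app_eq (biprod.total (X := F.obj (op n)) (Y := G.obj (op n))) U w).symm

end Sum

lemma killedByIdeal_of_le {K J : X.IdealSheafData} (h : ∀ U, J.ideal U ≤ K.ideal U) {M : X.Modules}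
    (hM : _root_.ClSub.KilledByIdeal K M) : _root_.ClSub.KilledByIdeal J M :=
  fun U a ha m => hM U a (h U ha) m

lemma pow_le (K : X.IdealSheafData) {a b : ℕ} (h : a ≤ b) (U : X.affineOpens) :
    (K ^ b).ideal U ≤ (K ^ a).ideal U := by
  simp only [Scheme.IdealSheafData.ideal_pow, Pi.pow_apply]
  exact Ideal.pow_le_pow_right h

lemma exists_preimage_of_killed {K : X.IdealSheafData} {M N : X.Modules} [M.IsQuasicoherent]
    [N.IsQuasicoherent] (φ : M ⟶ N) (h : _root_.ClSub.KilledByIdeal K (cokernel φ)) (U : X.affineOpens)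
    {a : Γ(X, U.1)} (ha : a ∈ K.ideal U) (s : Γ(N, U.1)) : ∃ f, φ.app U.1 f = a • s := by
  refine Exact.exists_preimage φ U.2 _ ?_
  rw [(cokernel.π φ).app_smul]
  exact h U a ha _

lemma biprod_inl_inr {M N : X.Modules} {U : X.Opens} (w : Γ(M ⊞ N, U)) :
    w = (biprod.inl : M ⟶ M ⊞ N).app U ((biprod.fst : M ⊞ N ⟶ M).app U w) +
      (biprod.inr : N ⟶ M ⊞ N).app U ((biprod.snd : M ⊞ N ⟶ N).app U w) :=
  (app_eq (biprod.total (X := M) (Y := N)) U w).symm

lemma mem_sum_smul_top {F G : ℕᵒᵖ ⥤ X.Modules} {n : ℕ} {U : X.Opens} (J : Ideal Γ(X, U))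
    (w : Γ((sum F G).obj (op n), U)) :
    w ∈ J • (⊤ : Submodule Γ(X, U) Γ((sum F G).obj (op n), U)) ↔
      (fst F G n).app U w ∈ J • (⊤ : Submodule Γ(X, U) Γ(F.obj (op n), U)) ∧
        (snd F G n).app U w ∈ J • (⊤ : Submodule Γ(X, U) Γ(G.obj (op n), U)) := by
  constructor
  · intro h
    have h1 := Submodule.mem_map_of_mem (f := secₗ (fst F G n) U) h
    have h2 := Submodule.mem_map_of_mem (f := secₗ (snd F G n) U) h
    rw [Submodule.map_smul''] at h1 h2
    exact ⟨Submodule.smul_mono le_rfl le_top h1, Submodule.smul_mono le_rfl le_top h2⟩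
  · rintro ⟨h1, h2⟩
    have h1' := Submodule.mem_map_of_mem (f := secₗ (inl F G n) U) h1
    have h2' := Submodule.mem_map_of_mem (f := secₗ (inr F G n) U) h2
    rw [Submodule.map_smul''] at h1' h2'
    rw [inl_inr w]
    exact add_mem (Submodule.smul_mono le_rfl le_top h1') (Submodule.smul_mono le_rfl le_top h2')

lemma eq_zero_iff {F G : ℕᵒᵖ ⥤ X.Modules} {n : ℕ} {U : X.Opens} (w : Γ((sum F G).obj (op n), U)) :
    w = 0 ↔ (fst F G n).app U w = 0 ∧ (snd F G n).app U w = 0 :=
  ⟨fun h => by rw [h, map_zero, map_zero]; exact ⟨rfl, rfl⟩,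
    fun h => ext (h.1.trans (map_zero _).symm) (h.2.trans (map_zero _).symm)⟩

theorem isCohFormal_sum {F G : ℕᵒᵖ ⥤ X.Modules} (hF : _root_.Formal.IsCohFormal I F)
    (hG : _root_.Formal.IsCohFormal I G) : _root_.Formal.IsCohFormal I (sum F G) := by
  haveI := fun n => Formal.Sys.qcoh hF n
  haveI := fun n => Formal.Sys.qcoh hG n
  have hc : ∀ n, Coh.IsCoh ((sum F G).obj (op n)) := fun n => CohBasics.Closure.isCoh_biprod (hF.1 n) (hG.1 n)
  haveI := fun n => (hc n).1
  refine ⟨hc, fun n a ha => ?_, fun n => ?_⟩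
  · refine hom_ext' ?_ ?_
    · rw [← smulMod_comp, hF.2.1 n a ha, zero_comp, comp_zero]
    · rw [← smulMod_comp, hG.2.1 n a ha, zero_comp, comp_zero]
  refine Formal.Sys.exists_isIso_desc (I ^ (n + 1)) ((sum F G).map (homOfLE (Nat.le_succ n)).op)
    (fun U hU w => ?_) fun U hU s => ?_
  · obtain ⟨x, hx⟩ := (Formal.Sys.succ_spec hF n hU).1 ((fst F G n).app U w)
    obtain ⟨y, hy⟩ := (Formal.Sys.succ_spec hG n hU).1 ((snd F G n).app U w)
    obtain ⟨z, hz1, hz2⟩ := exists_pair x y
    refine ⟨z, ext ((app_eq (map_fst (F := F) (G := G)) U z).trans ?_)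
      ((app_eq (map_snd (F := F) (G := G)) U z).trans ?_)⟩
    · rw [← hx, ← hz1]; rfl
    · rw [← hy, ← hz2]; rfl
  · rw [eq_zero_iff, sIdeal_pow, mem_sum_smul_top]
    exact and_congr
      ((Eq.congr_left (app_eq (map_fst (F := F) (G := G)) U s)).trans ((Formal.Sys.succ_spec hF n hU).2 _))
      ((Eq.congr_left (app_eq (map_snd (F := F) (G := G)) U s)).trans ((Formal.Sys.succ_spec hG n hU).2 _))

variable [IsNoetherian X] (K : X.IdealSheafData) {F : ℕᵒᵖ ⥤ X.Modules}

theorem exists_algebraization (hF : _root_.Formal.IsCohFormal I F)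
    (h₁ : ∀ e : ℕ,
      (∀ (M N : X.Modules), Coh.IsCoh M → Coh.IsCoh N → _root_.ClSub.KilledByIdeal (K ^ e) M →
        _root_.ClSub.KilledByIdeal (K ^ e) N →
        ∀ ψ : _root_.Formal.completion I M ⟶ _root_.Formal.completion I N, ∃! φ : M ⟶ N,
          ∀ n : ℕ, _root_.Formal.modPowπ I (n + 1) M ≫ ψ.app (op n) = φ ≫ _root_.Formal.modPowπ I (n + 1) N) ∧
      (∀ G : ℕᵒᵖ ⥤ X.Modules, _root_.Formal.IsCohFormal I G →
        (∀ n : ℕ, _root_.ClSub.KilledByIdeal (K ^ e) (G.obj (op n))) →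
        ∃ M : X.Modules, Coh.IsCoh M ∧ _root_.ClSub.KilledByIdeal (K ^ e) M ∧
          Nonempty (_root_.Formal.completion I M ≅ G)))
    {H : X.Modules} (hH : Coh.IsCoh H) (α : F ⟶ _root_.Formal.completion I H) {t : ℕ}
    (hker : ∀ n, _root_.ClSub.KilledByIdeal (K ^ t) (kernel (α.app (op n))))
    (hcok : ∀ n, _root_.ClSub.KilledByIdeal (K ^ t) (cokernel (α.app (op n)))) :
    ∃ M : X.Modules, Coh.IsCoh M ∧ Nonempty (_root_.Formal.completion I M ≅ F) := by
  have hC := Formal.Compl.isCohFormal_completion I hH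
  haveI := hH.1
  haveI := fun n => Formal.Sys.qcoh hF n
  haveI := fun n => Formal.Sys.qcoh hC n
  obtain ⟨e, he⟩ := InfBound.exists_uniform_bound hF hC α K t hker
  -- reduction modulo `K^e`
  let i := (K ^ e).subschemeι
  letI : (K ^ e).subscheme.Over (Spec (CommRingCat.of A)) := ⟨i ≫ X ↘ Spec (CommRingCat.of A)⟩
  let Fe : ℕᵒᵖ ⥤ X.Modules := (F ⋙ Scheme.Modules.pullback i) ⋙ Scheme.Modules.pushforward i
  have hFe : _root_.Formal.IsCohFormal I Fe :=
    PushQuot.isCohFormal_push (i := i) rfl (Formal.Extend.isCohFormal_pullback (f := i) rfl hF)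
  have hFek : ∀ n, _root_.ClSub.KilledByIdeal (K ^ e) (Fe.obj (op n)) := fun n => by
    have := PushQuot.killedByIdeal_push i ((Scheme.Modules.pullback i).obj (F.obj (op n)))
    rw [Scheme.IdealSheafData.ker_subschemeι] at this
    exact this
  haveI := fun n => Formal.Sys.qcoh hFe n
  obtain ⟨Fe', hFe', hFe'k, ⟨βe⟩⟩ := (h₁ e).2 Fe hFe hFek
  haveI := hFe'.1
  let ηF : ∀ n, F.obj (op n) ⟶ Fe.obj (op n) := fun n => PushQuot.η i (F.obj (op n))
  have hηF : ∀ n, F.map (homOfLE (Nat.le_succ n)).op ≫ ηF n = ηF (n + 1) ≫ Fe.map (homOfLE (Nat.le_succ n)).op :=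
    fun n => (Scheme.Modules.pullbackPushforwardAdjunction i).unit.naturality _
  -- the cokernel system
  let C₀ := sum Fe (_root_.Formal.completion I H)
  have hC₀ : _root_.Formal.IsCohFormal I C₀ := isCohFormal_sum hFe hC
  let φ : ∀ n, F.obj (op n) ⟶ C₀.obj (op n) := fun n => lift (ηF n) (α.app (op n))
  have hφ : ∀ n, F.map (homOfLE (Nat.le_succ n)).op ≫ φ n = φ (n + 1) ≫ C₀.map (homOfLE (Nat.le_succ n)).op :=
    fun n => by
    refine hom_ext ?_ ?_
    · rw [Category.assoc, Category.assoc, lift_fst, map_fst, lift_fst_assoc, hηF n]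
    · rw [Category.assoc, Category.assoc, lift_snd, map_snd, lift_snd_assoc, α.naturality]
  let P := Exact.coker φ hφ
  have hP : _root_.Formal.IsCohFormal I P := Exact.isCohFormal_coker φ hφ hF hC₀
  haveI := fun n => Formal.Sys.qcoh hP n
  haveI := fun n => Formal.Sys.qcoh hC₀ n
  haveI hπe : ∀ n, Epi (Exact.π φ hφ n) := fun n => inferInstanceAs (Epi (cokernel.π (φ n)))
  have hPk : ∀ n, _root_.ClSub.KilledByIdeal (K ^ (e + t)) (P.obj (op n)) := by
    intro n U r hr p
    obtain ⟨z, hz⟩ : ∃ z, (Exact.π φ hφ n).app U.1 z = p :=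
      QCoh.Closure.sections_surjective_of_epi (Exact.π φ hφ n) U.2 p
    subst hz
    refine ((Exact.π φ hφ n).app_smul r z).symm.trans ?_
    simp only [Scheme.IdealSheafData.ideal_pow, Pi.pow_apply] at hr
    rw [pow_add] at hr
    refine Submodule.mul_induction_on hr (fun a ha b hb => ?_) fun x y hx hy => ?_
    · have ha' : a ∈ (K ^ e).ideal U := by simpa only [Scheme.IdealSheafData.ideal_pow, Pi.pow_apply] using ha
      have hb' : b ∈ (K ^ t).ideal U := by simpa only [Scheme.IdealSheafData.ideal_pow, Pi.pow_apply] using hb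
      obtain ⟨f, hf⟩ := exists_preimage_of_killed (α.app (op n)) (hcok n) U hb'
        ((snd Fe (_root_.Formal.completion I H) n).app U.1 z)
      have hz' : (a * b) • z = (φ n).app U.1 (a • f) := by
        refine ext ?_ ?_
        · refine Eq.trans ?_ (app_eq (lift_fst (ηF n) (α.app (op n))) U.1 (a • f)).symm
          rw [(fst Fe (_root_.Formal.completion I H) n).app_smul, mul_smul, (ηF n).app_smul]
          exact (hFek n U a ha' _).trans (hFek n U a ha' _).symm
        · refine Eq.trans ?_ (app_eq (lift_snd (ηF n) (α.app (op n))) U.1 (a • f)).symm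
          rw [(snd Fe (_root_.Formal.completion I H) n).app_smul, (α.app (op n)).app_smul, hf, mul_smul]
      exact (congrArg _ hz').trans (app_eq (cokernel.condition (φ n)) U.1 (a • f))
    · rw [add_smul, map_add, hx, hy]
      exact add_zero _
  obtain ⟨P', hP', hP'k, ⟨βP⟩⟩ := (h₁ (e + t)).2 P hP hPk
  haveI := hP'.1
  let πP : ∀ n, P' ⟶ P.obj (op n) := fun n => cπ I P' n ≫ βP.hom.app (op n)
  have key : ∀ {M : X.Modules} (_ : Coh.IsCoh M) (_ : _root_.ClSub.KilledByIdeal (K ^ (e + t)) M)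
      (w : ∀ n, M ⟶ P.obj (op n)) (_ : ∀ n, w (n + 1) ≫ P.map (homOfLE (Nat.le_succ n)).op = w n),
      ∃ ψ : M ⟶ P', ∀ n, w n = ψ ≫ πP n := by
    intro M hM hMk w hw
    obtain ⟨ω, hω⟩ := Existence.Construct.exists_hom hP w hw
    obtain ⟨ψ, hψ, -⟩ := (h₁ (e + t)).1 M P' hM hP' hMk hP'k (ω ≫ βP.inv)
    refine ⟨ψ, fun n => ?_⟩
    have h3 : βP.inv.app (op n) ≫ βP.hom.app (op n) = 𝟙 _ := βP.inv_hom_id_app _
    have hω' : cπ I M n ≫ ω.app (op n) = w n := hω n
    have hψ' : cπ I M n ≫ (ω ≫ βP.inv).app (op n) = ψ ≫ cπ I P' n := hψ n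
    rw [NatTrans.comp_app] at hψ'
    calc w n = (cπ I M n ≫ ω.app (op n) ≫ βP.inv.app (op n)) ≫ βP.hom.app (op n) := by
          rw [Category.assoc, Category.assoc, h3, Category.comp_id, hω']
      _ = (ψ ≫ cπ I P' n) ≫ βP.hom.app (op n) := congrArg (· ≫ _) hψ'
      _ = ψ ≫ πP n := Category.assoc _ _ _
  have hπmap : ∀ (M : X.Modules) n, cπ I M (n + 1) ≫
      (_root_.Formal.completion I M).map (homOfLE (Nat.le_succ n)).op = cπ I M n :=
    fun M n => cπ_comp I M (Nat.le_succ n)
  let inl₀ : ∀ n, Fe.obj (op n) ⟶ P.obj (op n) := fun n =>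
    inl Fe (_root_.Formal.completion I H) n ≫ Exact.π φ hφ n
  let inr₀ : ∀ n, (_root_.Formal.completion I H).obj (op n) ⟶ P.obj (op n) := fun n =>
    inr Fe (_root_.Formal.completion I H) n ≫ Exact.π φ hφ n
  have hinl₀ : ∀ n, inl₀ (n + 1) ≫ P.map (homOfLE (Nat.le_succ n)).op =
      Fe.map (homOfLE (Nat.le_succ n)).op ≫ inl₀ n := fun n =>
    (Category.assoc _ _ _).trans ((congrArg (_ ≫ ·) (Exact.π_map φ hφ n)).trans (inl_map_assoc _))
  have hinr₀ : ∀ n, inr₀ (n + 1) ≫ P.map (homOfLE (Nat.le_succ n)).op =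
      (_root_.Formal.completion I H).map (homOfLE (Nat.le_succ n)).op ≫ inr₀ n := fun n =>
    (Category.assoc _ _ _).trans ((congrArg (_ ≫ ·) (Exact.π_map φ hφ n)).trans (inr_map_assoc _))
  -- first component
  obtain ⟨ψ₁, hψ₁⟩ := key hFe' (killedByIdeal_of_le (pow_le K (Nat.le_add_right e t)) hFe'k)
    (fun n => cπ I Fe' n ≫ βe.hom.app (op n) ≫ inl₀ n) fun n =>
      calc (cπ I Fe' (n + 1) ≫ βe.hom.app (op (n + 1)) ≫ inl₀ (n + 1)) ≫
              P.map (homOfLE (Nat.le_succ n)).op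
          = cπ I Fe' (n + 1) ≫ βe.hom.app (op (n + 1)) ≫
              (inl₀ (n + 1) ≫ P.map (homOfLE (Nat.le_succ n)).op) :=
            (Category.assoc _ _ _).trans (congrArg (_ ≫ ·) (Category.assoc _ _ _))
        _ = cπ I Fe' (n + 1) ≫
              ((_root_.Formal.completion I Fe').map (homOfLE (Nat.le_succ n)).op ≫ βe.hom.app (op n)) ≫
              inl₀ n := by
            rw [hinl₀, βe.hom.naturality, Category.assoc]
        _ = _ := by rw [Category.assoc, ← Category.assoc, hπmap]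
  -- second component
  let j := (K ^ (e + t)).subschemeι
  have hdesc : ∀ n, ∃ w : PushQuot.red j H ⟶ P.obj (op n),
      PushQuot.η j H ≫ w = cπ I H n ≫ inr₀ n := fun n => by
    haveI := PushQuot.isQCoh_red j H
    haveI := PushClosed.Unit.epi_unit j H
    refine Formal.Sys.exists_desc _ _ fun U hU s hs => ?_
    have h2 := PushQuot.η_eq_zero j H hU s hs
    rw [Scheme.IdealSheafData.ker_subschemeι] at h2
    have hle : (K ^ (e + t)).ideal ⟨U, hU⟩ • (⊤ : Submodule Γ(X, U) Γ(H, U)) ≤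
        LinearMap.ker (secₗ (cπ I H n ≫ inr₀ n) U) :=
      Submodule.smul_le.2 fun r hr m _ => by
        rw [LinearMap.mem_ker, map_smul]
        exact hPk n ⟨U, hU⟩ r hr _
    have h5 := hle h2
    rw [LinearMap.mem_ker, secₗ_apply] at h5
    exact h5
  choose w hw using hdesc
  haveI := PushClosed.Unit.epi_unit j H
  obtain ⟨ψ₂, hψ₂⟩ := key (PushQuot.isCoh_red j hH) (by
      have := PushQuot.killedByIdeal_push j ((Scheme.Modules.pullback j).obj H)
      rw [Scheme.IdealSheafData.ker_subschemeι] at this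
      exact this) w fun n => by
    refine (cancel_epi (PushQuot.η j H)).1 ?_
    calc PushQuot.η j H ≫ w (n + 1) ≫ P.map (homOfLE (Nat.le_succ n)).op
        = cπ I H (n + 1) ≫ (inr₀ (n + 1) ≫ P.map (homOfLE (Nat.le_succ n)).op) := by
          rw [← Category.assoc, hw, Category.assoc]
      _ = _ := by rw [hinr₀, ← Category.assoc, hπmap, hw]
  -- the exact sequence
  let C := sum (_root_.Formal.completion I Fe') (_root_.Formal.completion I H)
  let πB : ∀ n, Fe' ⊞ H ⟶ C.obj (op n) := fun n =>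
    lift (biprod.fst ≫ cπ I Fe' n) (biprod.snd ≫ cπ I H n)
  have hB : Coh.IsCoh (Fe' ⊞ H) := CohBasics.Closure.isCoh_biprod hFe' hH
  haveI := hB.1
  have hC' : _root_.Formal.IsCohFormal I C :=
    isCohFormal_sum (Formal.Compl.isCohFormal_completion I hFe') hC
  let a : F ⟶ C := NatTrans.ofOpSequence
    (fun n => lift (ηF n ≫ βe.inv.app (op n)) (α.app (op n))) fun n => by
      refine hom_ext ?_ ?_
      · rw [Category.assoc, Category.assoc, lift_fst, map_fst, lift_fst_assoc, ← Category.assoc, hηF n,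
          Category.assoc, Category.assoc, ← βe.inv.naturality]
      · rw [Category.assoc, Category.assoc, lift_snd, map_snd, lift_snd_assoc, α.naturality]
  let c : ∀ n, C.obj (op n) ⟶ P.obj (op n) := fun n => desc (βe.hom.app (op n) ≫ inl₀ n) (inr₀ n)
  have hafst : ∀ n, a.app (op n) ≫ fst _ _ n = ηF n ≫ βe.inv.app (op n) := fun n => lift_fst _ _
  have hasnd : ∀ n, a.app (op n) ≫ snd _ _ n = α.app (op n) := fun n => lift_snd _ _
  have hc : ∀ n, c n = lift (fst _ _ n ≫ βe.hom.app (op n)) (snd _ _ n) ≫ Exact.π φ hφ n := fun n => by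
    have e1 : inl _ _ n ≫ lift (fst (_root_.Formal.completion I Fe') (_root_.Formal.completion I H) n ≫
        βe.hom.app (op n)) (snd _ _ n) = βe.hom.app (op n) ≫ inl Fe (_root_.Formal.completion I H) n := by
      refine hom_ext ?_ ?_ <;> simp
    have e2 : inr _ _ n ≫ lift (fst (_root_.Formal.completion I Fe') (_root_.Formal.completion I H) n ≫
        βe.hom.app (op n)) (snd _ _ n) = inr Fe (_root_.Formal.completion I H) n := by
      refine hom_ext ?_ ?_ <;> simp
    refine hom_ext' ?_ ?_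
    · refine (inl_desc _ _).trans ?_
      rw [← Category.assoc (inl _ _ n), e1, Category.assoc]
    · refine (inr_desc _ _).trans ?_
      rw [← Category.assoc (inr _ _ n), e2]
  refine Exact.exists_algebraization (B := Fe' ⊞ H) (P := P') (D := P) (C := C) hF hB hP'
    (biprod.desc ψ₁ (PushQuot.η j H ≫ ψ₂)) hC'.1 πB (fun n => ?_) (fun n U hU s => ?_) (fun n U hU y => ?_)
    πP (fun n U hU s => ?_) a c (fun n => ?_) (fun n => ?_) (fun n U hU y hy => ?_) e fun x => ?_
  · refine hom_ext ?_ ?_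
    · rw [Category.assoc, map_fst, lift_fst_assoc, lift_fst, Category.assoc, hπmap]
    · rw [Category.assoc, map_snd, lift_snd_assoc, lift_snd, Category.assoc, hπmap]
  · have e1 := app_eq (lift_fst (F := _root_.Formal.completion I Fe') (G := _root_.Formal.completion I H)
      (n := n) (biprod.fst ≫ cπ I Fe' n) (biprod.snd ≫ cπ I H n)) U s
    have e2 := app_eq (lift_snd (F := _root_.Formal.completion I Fe') (G := _root_.Formal.completion I H)
      (n := n) (biprod.fst ≫ cπ I Fe' n) (biprod.snd ≫ cπ I H n)) U s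
    refine (eq_zero_iff _).trans ?_
    refine (and_congr ((Eq.congr_left e1).trans (cπ_eq_zero_iff (M := Fe') I n hU _))
      ((Eq.congr_left e2).trans (cπ_eq_zero_iff (M := H) I n hU _))).trans ?_
    constructor
    · rintro ⟨h1, h2⟩
      have h1' := Submodule.mem_map_of_mem (f := secₗ (biprod.inl : Fe' ⟶ Fe' ⊞ H) U) h1
      have h2' := Submodule.mem_map_of_mem (f := secₗ (biprod.inr : H ⟶ Fe' ⊞ H) U) h2
      rw [Submodule.map_smul''] at h1' h2'
      rw [biprod_inl_inr s]
      exact add_mem (Submodule.smul_mono le_rfl le_top h1') (Submodule.smul_mono le_rfl le_top h2')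
    · intro h
      have h1 := Submodule.mem_map_of_mem (f := secₗ (biprod.fst : Fe' ⊞ H ⟶ _) U) h
      have h2 := Submodule.mem_map_of_mem (f := secₗ (biprod.snd : Fe' ⊞ H ⟶ _) U) h
      rw [Submodule.map_smul''] at h1 h2
      exact ⟨Submodule.smul_mono le_rfl le_top h1, Submodule.smul_mono le_rfl le_top h2⟩
  · obtain ⟨x₁, hx₁⟩ := cπ_surjective (M := Fe') I n hU ((fst _ _ n).app U y)
    obtain ⟨x₂, hx₂⟩ := cπ_surjective (M := H) I n hU ((snd _ _ n).app U y)
    obtain ⟨z, hz1, hz2⟩ := exists_biprod x₁ x₂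
    refine ⟨z, ext ?_ ?_⟩
    · refine (app_eq (lift_fst _ _) U z).trans (Eq.trans ?_ hx₁)
      rw [← hz1]; rfl
    · refine (app_eq (lift_snd _ _) U z).trans (Eq.trans ?_ hx₂)
      rw [← hz2]; rfl
  · refine Iff.trans ⟨fun h => (app_bijective (βP.hom.app (op n)) U).1 (h.trans (map_zero _).symm),
      fun h => (congrArg (ConcreteCategory.hom ((βP.hom.app (op n)).app U)) h).trans (map_zero _)⟩ (cπ_eq_zero_iff (M := P') I n hU s)
  · have e1 : (biprod.inl : Fe' ⟶ Fe' ⊞ H) ≫ πB n = cπ I Fe' n ≫ inl _ _ n := by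
      refine hom_ext ?_ ?_
      · rw [Category.assoc, Category.assoc, lift_fst, inl_fst, biprod.inl_fst_assoc]
        exact (Category.comp_id _).symm
      · rw [Category.assoc, Category.assoc, lift_snd, inl_snd, comp_zero, biprod.inl_snd_assoc, zero_comp]
    have e2 : (biprod.inr : H ⟶ Fe' ⊞ H) ≫ πB n = cπ I H n ≫ inr _ _ n := by
      refine hom_ext ?_ ?_
      · rw [Category.assoc, Category.assoc, lift_fst, inr_fst, comp_zero, biprod.inr_fst_assoc, zero_comp]
      · rw [Category.assoc, Category.assoc, lift_snd, inr_snd, biprod.inr_snd_assoc]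
        exact (Category.comp_id _).symm
    refine biprod.hom_ext' _ _ ?_ ?_
    · rw [← Category.assoc, e1, biprod.inl_desc_assoc, Category.assoc, inl_desc]
      exact hψ₁ n
    · rw [← Category.assoc, e2, biprod.inr_desc_assoc, Category.assoc, inr_desc, Category.assoc, ← hψ₂ n]
      exact (hw n).symm
  · rw [hc, ← Category.assoc]
    have : a.app (op n) ≫ lift (fst _ _ n ≫ βe.hom.app (op n)) (snd _ _ n) = φ n := by
      refine hom_ext ?_ ?_
      · rw [Category.assoc, lift_fst, ← Category.assoc, hafst, lift_fst, Category.assoc,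
          Iso.inv_hom_id_app]
        exact Category.comp_id _
      · rw [Category.assoc, lift_snd, hasnd, lift_snd]
    rw [this]
    exact cokernel.condition (φ n)
  · rw [hc] at hy
    obtain ⟨f, hf⟩ := Exact.exists_preimage (φ n) hU
      ((lift (fst (_root_.Formal.completion I Fe') (_root_.Formal.completion I H) n ≫ βe.hom.app (op n))
        (snd _ _ n)).app U y) hy
    refine ⟨f, ext ((app_eq (hafst n) U f).trans ?_) ((app_eq (hasnd n) U f).trans ?_)⟩
    · change (βe.inv.app (op n)).app U ((ηF n).app U f) = _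
      rw [← app_eq (lift_fst (ηF n) (α.app (op n))) U f]
      change (βe.inv.app (op n)).app U ((fst Fe _ n).app U ((φ n).app U f)) = _
      rw [hf]
      exact app_eq (show lift (fst (_root_.Formal.completion I Fe') (_root_.Formal.completion I H) n ≫
        βe.hom.app (op n)) (snd _ _ n) ≫ fst _ _ n ≫ βe.inv.app (op n) = fst _ _ n by
          rw [lift_fst_assoc, Category.assoc, Iso.hom_inv_id_app]; exact Category.comp_id _) U y
    · rw [← app_eq (lift_snd (ηF n) (α.app (op n))) U f]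
      change (snd Fe _ n).app U ((φ n).app U f) = _
      rw [hf]
      exact app_eq (lift_snd _ _) U y
  · obtain ⟨U, hx, hU⟩ := he x
    refine ⟨U.1, U.2, hx, fun n f hf => hU n f ?_ ?_⟩
    · have h0 : (ηF (n + e) ≫ βe.inv.app (op (n + e))).app U.1 f = 0 :=
        (app_eq (hafst (n + e)) U.1 f).symm.trans
          ((congrArg (ConcreteCategory.hom ((fst _ _ (n + e)).app U.1)) hf).trans (map_zero _))
      have h1 : (PushQuot.η i (F.obj (op (n + e)))).app U.1 f = 0 :=
        (app_bijective (βe.inv.app (op (n + e))) U.1).1 (h0.trans (map_zero _).symm)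
      have h2 := PushQuot.η_eq_zero i (F.obj (op (n + e))) U.2 f h1
      rw [Scheme.IdealSheafData.ker_subschemeι] at h2
      exact h2
    · exact (app_eq (hasnd (n + e)) U.1 f).symm.trans
        ((congrArg (ConcreteCategory.hom ((snd _ _ (n + e)).app U.1)) hf).trans (map_zero _))

end Groth.Agent.H78.Proper.Tricky
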