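import Groth.Agent.H78.Proper.PushPull
import Groth.Agent.H78.Proper.Tricky
import Groth.Agent.H78.Existence.Construct
import Groth.Agent.Lib.HProj.QuasiProj
import Groth.Agent.Lib.Chow.Main
import Groth.Agent.Lib.ProperFin.Assembly
import Groth.Agent.Lib.ZarCoh.PushKilled

/-!
# Formal modules on proper schemes are completions
-/

set_option linter.style.haveILetI false

noncomputable section

universe u

open CategoryTheory Limits AlgebraicGeometry Opposite TopologicalSpace

namespace Groth.Agent.H78.Proper.Existence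

open Groth.Agent.Lib Groth.Agent.H78.Formal.Sections Groth.Agent.H78.Formal.Elem

variable {A : Type u} [CommRing A] {I : Ideal A}

/-- Every formal module is a completion. -/
def Algebraizable (I : Ideal A) (Z : Scheme.{u}) [Z.Over (Spec (CommRingCat.of A))] : Prop :=
  ∀ G : ℕᵒᵖ ⥤ Z.Modules, _root_.Formal.IsCohFormal I G →
    ∃ M : Z.Modules, Coh.IsCoh M ∧ Nonempty (_root_.Formal.completion I M ≅ G)

lemma algebraizable_of_isEmpty {Z : Scheme.{u}} [Z.Over (Spec (CommRingCat.of A))] [IsEmpty Z] :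
    Algebraizable I Z := by
  intro G hG
  have h0 : ∀ {M : Z.Modules}, M.IsQuasicoherent → IsZero M := fun {M} hM =>
    (IsZero.iff_id_eq_zero M).2 (haveI := hM; eq_zero_of_cover _ fun x => isEmptyElim x)
  have hM : Coh.IsCoh (G.obj (op 0)) := hG.1 0
  haveI := hM.1
  have hC : ∀ n, IsZero ((_root_.Formal.completion I (G.obj (op 0))).obj (op n)) := fun n =>
    h0 (isQCoh_modPow I (n + 1))
  exact ⟨_, hM, ⟨NatIso.ofComponents (fun n => (hC n.unop).iso (h0 (hG.1 n.unop).1))
    fun {m n} _ => (hC m.unop).eq_of_src _ _⟩⟩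

variable [IsNoetherianRing A] [IsAdicComplete I A]

/-- The inductive step. -/
theorem algebraizable_step {Z : Scheme.{u}} [Z.Over (Spec (CommRingCat.of A))]
    [IsProper (Z ↘ Spec (CommRingCat.of A))] [Nonempty Z]
    (ih : ∀ T : Closeds Z, (T : Set Z) ≠ Set.univ → ∀ (W : Scheme.{u}) (ι : W ⟶ Z) [IsClosedImmersion ι],
      letI : W.Over (Spec (CommRingCat.of A)) := ⟨ι ≫ (Z ↘ Spec (CommRingCat.of A))⟩
      Set.range ι ⊆ T → Algebraizable I W) :
    Algebraizable I Z := by
  intro G hG
  haveI := H78.Existence.AmpleVanish.isNoetherian_of_proper A (X := Z)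
  let h := Z ↘ Spec (CommRingCat.of A)
  obtain ⟨n, Z', π, j, U, hji, hj, hπ, -, hU, hUiso, -, -⟩ :=
    Chow.Main.chow h TopologicalSpace.NoetherianSpace.finite_irreducibleComponents
  haveI := hji
  haveI := hπ
  haveI := hUiso
  letI : Z'.Over (Spec (CommRingCat.of A)) := ⟨π ≫ h⟩
  haveI : IsProper (Z' ↘ Spec (CommRingCat.of A)) :=
    inferInstanceAs (IsProper (π ≫ (Z ↘ Spec (CommRingCat.of A))))
  let j' : Z' ⟶ CohB1.ProjSpace n A := j ≫ (ProjSpace.BaseChange.overSpecIso n A).hom
  have hj' : j' ≫ CohB1.ProjSpace.toSpec n A = Z' ↘ Spec (CommRingCat.of A) := by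
    rw [Category.assoc, ProjSpace.BaseChange.overSpecIso_hom_toSpec, hj]
    rfl
  haveI : IsClosedImmersion j' := by
    refine (IsClosedImmersion.iff_isProper_and_mono j').mpr ⟨?_, inferInstance⟩
    haveI : IsProper (j' ≫ CohB1.ProjSpace.toSpec n A) := by rw [hj']; infer_instance
    exact IsProper.of_comp j' (CohB1.ProjSpace.toSpec n A)
  haveI : IsLocallyNoetherian Z' := LocallyOfFiniteType.isLocallyNoetherian π
  -- the algebraization upstairs
  have hπG := Formal.Extend.isCohFormal_pullback (f := π) (X := Z') rfl hG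
  obtain ⟨F, hF, ⟨e⟩⟩ := H78.Existence.Construct.exists_algebraization A (L := _)
    (Ample.Pullback.isAmple_pullback j' (Ample.Pullback.isQuasiAffine_of_isAffineHom j')
      (HProj.QuasiProj.isAmple_twist_projSpace n A)) hπG
  let C : Closeds Z := ⟨(U : Set Z)ᶜ, U.2.isClosed_compl⟩
  let K := Scheme.IdealSheafData.vanishingIdeal C
  have hK : K.support = C := TopologicalSpace.Closeds.ext (Scheme.IdealSheafData.coe_support_vanishingIdeal C)
  haveI hiso : IsIso (π ∣_ K.support.compl) := by
    rw [hK, show C.compl = U from TopologicalSpace.Opens.ext (compl_compl _)]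
    exact hUiso
  obtain ⟨α, hα⟩ := PushPull.exists_map_killed (f := π) (X := Z') rfl K hiso hG hF e.symm
  obtain ⟨t, ht⟩ := hα
  have hprop : ClSub.IsProperOver (Z ↘ Spec (CommRingCat.of A)) (Set.univ : Set Z) :=
    ⟨isClosed_univ, inferInstance⟩
  refine Tricky.exists_algebraization K hG (fun e => ⟨fun M N hM hN _ _ ψ =>
      Faithful.Completion.existsUnique_of_good I (FormalFun.ProperSupport.good Snapper.Finite.facts hprop) hM hN
        ⟨RefHull.HomSh.isCoh_homSh hM hN, Set.subset_univ _⟩ ψ, fun G₁ hG₁ hG₁K => ?_⟩)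
    (Cyc.PP.Push.isCoh_push π hF) α (fun n => (ht n).1) fun n => (ht n).2
  -- modules killed by a power of the ideal
  let ι := (K ^ e).subschemeι
  haveI : IsLocallyNoetherian (K ^ e).subscheme := LocallyOfFiniteType.isLocallyNoetherian ι
  letI : (K ^ e).subscheme.Over (Spec (CommRingCat.of A)) := ⟨ι ≫ (Z ↘ Spec (CommRingCat.of A))⟩
  have hrange : Set.range ι ⊆ (C : Set Z) := by
    rw [Scheme.IdealSheafData.range_subschemeι]
    cases e with
    | zero => intro x hx; exact (hx : False).elim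
    | succ e => rw [Scheme.IdealSheafData.support_pow_succ, hK]
  have hC : (C : Set Z) ≠ Set.univ := fun h => by
    obtain ⟨u, hu⟩ := hU.nonempty
    exact (h.ge (Set.mem_univ u) : u ∈ (U : Set Z)ᶜ) hu
  obtain ⟨M, hM, ⟨eM⟩⟩ := ih C hC _ ι hrange _ (Formal.Extend.isCohFormal_pullback (f := ι) rfl hG₁)
  haveI := fun k => Formal.Sys.qcoh hG₁ k
  haveI : ∀ k, IsIso ((Functor.whiskerLeft G₁ (Scheme.Modules.pullbackPushforwardAdjunction ι).unit).app k) := fun k => by
    refine ZarCoh.PushKilled.isIso_unit ι _ ?_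
    rw [Scheme.IdealSheafData.ker_subschemeι]
    exact hG₁K k.unop
  haveI := NatIso.isIso_of_isIso_app (Functor.whiskerLeft G₁ (Scheme.Modules.pullbackPushforwardAdjunction ι).unit)
  refine ⟨(Scheme.Modules.pushforward ι).obj M, Cyc.PP.Push.isCoh_push ι hM, ?_, ?_⟩
  · have hk := PushQuot.killedByIdeal_push ι M
    rwa [Scheme.IdealSheafData.ker_subschemeι] at hk
  · obtain ⟨β⟩ := PushQuot.nonempty_completion_iso (i := ι) (Z := (K ^ e).subscheme) rfl hM (I := I)
    exact ⟨β ≪≫ Functor.isoWhiskerRight eM (Scheme.Modules.pushforward ι) ≪≫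
      (asIso (Functor.whiskerLeft G₁ (Scheme.Modules.pullbackPushforwardAdjunction ι).unit)).symm ≪≫
      G₁.rightUnitor⟩

variable (I) in
/-- Grothendieck's existence theorem for closed subschemes of a proper scheme. -/
theorem algebraizable_closed {X : Scheme.{u}} [X.Over (Spec (CommRingCat.of A))]
    [IsProper (X ↘ Spec (CommRingCat.of A))] :
    ∀ (T : Closeds X) (Z : Scheme.{u}) (i : Z ⟶ X) [IsClosedImmersion i],
      letI : Z.Over (Spec (CommRingCat.of A)) := ⟨i ≫ (X ↘ Spec (CommRingCat.of A))⟩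
      Set.range i ⊆ T → Algebraizable I Z := by
  haveI := H78.Existence.AmpleVanish.isNoetherian_of_proper A (X := X)
  intro T
  induction T using WellFoundedLT.induction with
  | ind T IH =>
    intro Z i _ hi
    letI : Z.Over (Spec (CommRingCat.of A)) := ⟨i ≫ (X ↘ Spec (CommRingCat.of A))⟩
    haveI : IsProper (Z ↘ Spec (CommRingCat.of A)) :=
      inferInstanceAs (IsProper (i ≫ (X ↘ Spec (CommRingCat.of A))))
    rcases isEmpty_or_nonempty Z with hZ | hZ
    · exact algebraizable_of_isEmpty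
    refine algebraizable_step fun T' hT' W ι _ hW => ?_
    let T'' : Closeds X := ⟨i '' (T' : Set Z), i.isClosedEmbedding.isClosedMap _ T'.isClosed⟩
    have hlt : T'' < T := by
      refine lt_of_le_of_ne (by rintro _ ⟨z, -, rfl⟩; exact hi ⟨z, rfl⟩) fun h => hT' ?_
      refine Set.eq_univ_of_forall fun z => ?_
      obtain ⟨z', hz', e⟩ : i z ∈ (T'' : Set X) := by rw [h]; exact hi ⟨z, rfl⟩
      exact i.isClosedEmbedding.injective e ▸ hz'
    have hW' := IH T'' hlt W (ι ≫ i) (by rintro _ ⟨w, rfl⟩; exact ⟨ι w, hW ⟨w, rfl⟩, rfl⟩)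
    have e : (⟨(ι ≫ i) ≫ (X ↘ Spec (CommRingCat.of A))⟩ : W.Over (Spec (CommRingCat.of A))) =
        ⟨ι ≫ (Z ↘ Spec (CommRingCat.of A))⟩ := congrArg (fun φ => (⟨φ⟩ : W.Over (Spec (CommRingCat.of A))))
      (Category.assoc _ _ _)
    rw [e] at hW'
    exact hW'

/-- Grothendieck's existence theorem: formal modules on a proper scheme are completions. -/
theorem algebraizable {X : Scheme.{u}} [X.Over (Spec (CommRingCat.of A))]
    [IsProper (X ↘ Spec (CommRingCat.of A))] : Algebraizable I X := by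
  have h := algebraizable_closed I (X := X) (⊤ : Closeds X) X (𝟙 X) (Set.subset_univ _)
  have e : (⟨(𝟙 X) ≫ (X ↘ Spec (CommRingCat.of A))⟩ : X.Over (Spec (CommRingCat.of A))) =
      (inferInstance : X.Over (Spec (CommRingCat.of A))) :=
    congrArg (fun φ => (⟨φ⟩ : X.Over (Spec (CommRingCat.of A)))) (Category.id_comp _)
  rw [e] at h
  exact h

end Groth.Agent.H78.Proper.Existence
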