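import Groth.Agent.H78.Proper.OpenPush
import Groth.Agent.H78.Proper.Existence
import Groth.Agent.H22.Nagata.Compactifiable
import Groth.Agent.Lib.ZarCoh.ProperOver

/-!
# Formal modules with proper support are completions
-/

set_option linter.style.haveILetI false
set_option linter.unusedSectionVars false

noncomputable section

universe u

open CategoryTheory Limits AlgebraicGeometry Opposite TopologicalSpace

namespace Groth.Agent.H78.Proper.SupportedExistence

open Groth.Agent.Lib Groth.Agent.Lib.CohBasics.Affine Groth.Agent.H78.Formal.Sections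
  Groth.Agent.H78.Formal.Elem

variable {A : Type u} [CommRing A] {I : Ideal A}

section

variable {Y : Scheme.{u}} [Y.Over (Spec (CommRingCat.of A))]

/-- Near a point over `V(I)` a coherent module with vanishing reduction vanishes. -/
lemma not_mem_support_of_subsingleton {M : Y.Modules} (hM : Coh.IsCoh M) {W : Y.Opens} (hW : IsAffineOpen W)
    {x : Y} (hx : x ∈ W)
    (hover : ∀ a ∈ I, (Y ↘ Spec (CommRingCat.of A)) x ∉ PrimeSpectrum.basicOpen a)
    (h0 : ∀ z : Γ((_root_.Formal.completion I M).obj (op 0), W), z = 0) : x ∉ CohB1.support M := by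
  haveI := hM.1
  haveI := CohBasics.Closure.finite_sections hM hW
  have htop : (⊤ : Submodule Γ(Y, W) Γ(M, W)) ≤ sIdeal I W • ⊤ := fun s _ => by
    have h1 := (cπ_eq_zero_iff I 0 hW s).1 (h0 _)
    rwa [zero_add, pow_one] at h1
  obtain ⟨r, hr, hr0⟩ := Submodule.exists_sub_one_mem_and_smul_eq_zero_of_fg_of_le_smul _ _
    (Module.Finite.fg_top (R := Γ(Y, W)) (M := Γ(M, W))) htop
  have hxr : x ∈ Y.basicOpen r := by
    by_contra hxr
    have hle : sIdeal I W ≤ (hW.primeIdealOf ⟨x, hx⟩).asIdeal := by
      refine Ideal.map_le_iff_le_comap.2 fun a ha => ?_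
      by_contra hna
      rw [Ideal.mem_comap] at hna
      have h2 := (QCoh.Stalk.mem_primeIdealOf_compl_iff hW hx (sMap A W a)).1 hna
      have h3 : Y.basicOpen (sMap A W a) ≤ (Y ↘ Spec (CommRingCat.of A)) ⁻¹ᵁ PrimeSpectrum.basicOpen a := by
        change Y.basicOpen (Y.presheaf.map (homOfLE (le_top (a := W))).op
          ((Y ↘ Spec (CommRingCat.of A)).appTop ((Scheme.ΓSpecIso (CommRingCat.of A)).inv a))) ≤ _
        rw [Scheme.basicOpen_res]
        refine inf_le_right.trans ?_
        have e : (Spec (CommRingCat.of A)).basicOpen ((Scheme.ΓSpecIso (CommRingCat.of A)).inv a) =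
            PrimeSpectrum.basicOpen a := basicOpen_eq_of_affine (R := CommRingCat.of A) a
        refine le_of_eq ?_
        change Y.basicOpen _ = (Y ↘ Spec (CommRingCat.of A)) ⁻¹ᵁ (show (Spec (CommRingCat.of A)).Opens from
          PrimeSpectrum.basicOpen a)
        rw [← e, Scheme.preimage_basicOpen]
        rfl
      exact hover a ha (h3 h2)
    have hrp : r ∈ (hW.primeIdealOf ⟨x, hx⟩).asIdeal := by
      by_contra hn
      exact hxr ((QCoh.Stalk.mem_primeIdealOf_compl_iff hW hx r).1 hn)
    refine (hW.primeIdealOf ⟨x, hx⟩).isPrime.ne_top ((Ideal.eq_top_iff_one _).2 ?_)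
    have h4 := sub_mem hrp (hle hr)
    rwa [sub_sub_cancel] at h4
  exact (Modules.SupportOps.not_mem_support_iff_forall_smul M hW hx).2 fun s => ⟨r, hxr, hr0 s trivial⟩

end

variable [IsNoetherianRing A] [IsAdicComplete I A]

/-- Grothendieck's existence theorem with proper support. -/
theorem exists_algebraization {X : Scheme.{u}} [X.Over (Spec (CommRingCat.of A))]
    [IsSeparated (X ↘ Spec (CommRingCat.of A))] [LocallyOfFiniteType (X ↘ Spec (CommRingCat.of A))]
    [QuasiCompact (X ↘ Spec (CommRingCat.of A))] (G : ℕᵒᵖ ⥤ X.Modules) (hG : _root_.Formal.IsCohFormal I G)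
    (hGs : ClSub.IsProperOver (X ↘ Spec (CommRingCat.of A)) (CohB1.support (G.obj (op 0)))) :
    ∃ M : X.Modules, Coh.IsCoh M ∧
      ClSub.IsProperOver (X ↘ Spec (CommRingCat.of A)) (CohB1.support M) ∧
      Nonempty (_root_.Formal.completion I M ≅ G) := by
  obtain ⟨Xc, j, g, hjo, hjq, hg, hjg⟩ :=
    H22.Nagata.compactifiable_noetherian (X ↘ Spec (CommRingCat.of A))
  haveI := hjo
  haveI := hjq
  haveI := hg
  letI : Xc.Over (Spec (CommRingCat.of A)) := ⟨g⟩
  haveI : IsProper (Xc ↘ Spec (CommRingCat.of A)) := hg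
  haveI := H78.Existence.AmpleVanish.isNoetherian_of_proper A (X := Xc)
  have hj : j ≫ (Xc ↘ Spec (CommRingCat.of A)) = X ↘ Spec (CommRingCat.of A) := hjg
  set T := CohB1.support (G.obj (op 0))
  have hT : IsClosed (j '' T) := by
    refine (ZarCoh.ProperOver.isProperOver_image (X ↘ Spec (CommRingCat.of A)) g j hjg hGs ?_).1
    intro T' i _ _
    haveI : UniversallyClosed ((i ≫ j) ≫ g) := by
      rw [Category.assoc, hjg]; infer_instance
    exact UniversallyClosed.of_comp_of_isSeparated (i ≫ j) g
  have hG' := OpenPush.isCohFormal_push j hj hG hT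
  obtain ⟨N, hN, ⟨eN⟩⟩ := Existence.algebraizable _ hG'
  haveI := hN.1
  haveI := hN.2
  -- the support of `N` lies in the open
  have hsupp : CohB1.support N ⊆ Set.range j := by
    by_contra hne
    obtain ⟨x₀, hx₀, hx₀'⟩ := Set.not_subset.1 hne
    let C : Set Xc := CohB1.support N ∩ (Set.range j)ᶜ
    have hC : IsClosed C :=
      (Modules.Support.isClosed_support N).inter j.isOpenEmbedding.isOpen_range.isClosed_compl
    obtain ⟨m, hm, hmc⟩ := (g.isClosedMap C hC).exists_closed_singleton ⟨g x₀, ⟨x₀, ⟨hx₀, hx₀'⟩, rfl⟩⟩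
    obtain ⟨x, hxC, hxm⟩ := hm
    have hmax : (m : PrimeSpectrum A).asIdeal.IsMaximal :=
      (PrimeSpectrum.isClosed_singleton_iff_isMaximal m).1 hmc
    have hI : I ≤ (m : PrimeSpectrum A).asIdeal :=
      (IsAdicComplete.le_jacobson_bot I).trans (sInf_le ⟨bot_le, hmax⟩)
    obtain ⟨W, hW, hxW, hWle⟩ := exists_isAffineOpen_mem_and_subset (X := Xc) (U := ⟨_, hT.isOpen_compl⟩)
      (x := x) (fun ⟨y, _, e⟩ => hxC.2 ⟨y, e⟩)
    refine not_mem_support_of_subsingleton (I := I) hN hW hxW (fun a ha hb => ?_) (fun z => ?_) hxC.1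
    · have hgx : (Xc ↘ Spec (CommRingCat.of A)) x = m := hxm
      rw [hgx] at hb
      exact hb (hI ha)
    · refine (app_bijective (eN.hom.app (op 0)) W).1 (Eq.trans ?_ (map_zero _).symm)
      exact OpenPush.eq_zero_of_disjoint hG
        (Set.disjoint_left.2 fun y hy hyT => hWle hy ⟨y, hyT, rfl⟩) 0 _
  refine ⟨(Scheme.Modules.restrictFunctor j).obj N, Formal.Extend.isCoh_restr j hN, ?_, ?_⟩
  · -- properness of the support
    have hcl : IsClosed (CohB1.support N) := Modules.Support.isClosed_support N
    let red := Scheme.IdealSheafData.vanishingIdeal (X := Xc) ⟨CohB1.support N, hcl⟩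
    have hr : Set.range red.subschemeι ⊆ Set.range j := by
      rw [Scheme.IdealSheafData.range_subschemeι, Scheme.IdealSheafData.coe_support_vanishingIdeal]
      exact hsupp
    let i := IsOpenImmersion.lift j red.subschemeι hr
    have hi : i ≫ j = red.subschemeι := IsOpenImmersion.lift_fac _ _ _
    haveI : IsClosedImmersion i := by
      haveI : IsClosedImmersion (i ≫ j) := hi ▸ inferInstance
      exact IsClosedImmersion.of_comp i j
    have hrange : Set.range i = CohB1.support ((Scheme.Modules.restrictFunctor j).obj N) := by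
      rw [show CohB1.support ((Scheme.Modules.restrictFunctor j).obj N) = j ⁻¹' CohB1.support N from
        Modules.Support.support_restrict j N]
      have hred : Set.range red.subschemeι = CohB1.support N := by
        rw [Scheme.IdealSheafData.range_subschemeι, Scheme.IdealSheafData.coe_support_vanishingIdeal]; rfl
      rw [← hred, ← hi]
      ext y
      constructor
      · rintro ⟨z, rfl⟩; exact ⟨z, rfl⟩
      · rintro ⟨z, hz⟩; exact ⟨z, j.isOpenEmbedding.injective hz⟩
    refine (ZarCoh.ProperOver.isProper_comp_iff (X ↘ Spec (CommRingCat.of A)) i hrange).1 ?_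
    rw [← hjg, ← Category.assoc, hi]
    infer_instance
  · obtain ⟨e⟩ := Formal.Extend.completion_restr_iso (I := I) (f := j) (X := X) hj N
    exact ⟨e.symm ≪≫ Functor.isoWhiskerRight eN (Scheme.Modules.restrictFunctor j) ≪≫
      Functor.associator _ _ _ ≪≫ Functor.isoWhiskerLeft G (Scheme.Modules.restrictFunctorAdjCounitIso j) ≪≫
      G.rightUnitor⟩

end Groth.Agent.H78.Proper.SupportedExistence
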