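import Groth.Agent.H78.Formal.Elem
import Groth.Agent.H78.Formal.Compl
import Groth.Agent.H78.Formal.PullSys

/-!
# Formal modules and change of the ring of coefficients
-/

set_option linter.style.haveILetI false
set_option linter.unusedSectionVars false

noncomputable section

universe u

open CategoryTheory Limits AlgebraicGeometry Opposite TopologicalSpace

namespace Groth.Agent.H78.Proper.Coeff

open Groth.Agent.Lib Groth.Agent.Lib.CohBasics.Affine Groth.Agent.H78.Formal.Sections
  Groth.Agent.H78.Formal.Elem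

variable {A : Type u} [CommRing A] {B : Type u} [CommRing B] {X : Scheme.{u}}
  [X.Over (Spec (CommRingCat.of A))] [X.Over (Spec (CommRingCat.of B))] (φ : A →+* B)
variable (hφ : (X ↘ Spec (CommRingCat.of B)) ≫ Spec.map (CommRingCat.ofHom φ) = X ↘ Spec (CommRingCat.of A))

include hφ

lemma sMap_map (U : X.Opens) (a : A) : sMap B U (φ a) = sMap A U a := by
  have h : (X ↘ Spec (CommRingCat.of B)).appTop ((Scheme.ΓSpecIso (CommRingCat.of B)).inv (φ a)) =
      (X ↘ Spec (CommRingCat.of A)).appTop ((Scheme.ΓSpecIso (CommRingCat.of A)).inv a) := by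
    rw [← hφ, Scheme.Hom.comp_appTop]
    exact congrArg (X ↘ Spec (CommRingCat.of B)).appTop
      (ConcreteCategory.congr_hom (Scheme.ΓSpecIso_inv_naturality (CommRingCat.ofHom φ)) a)
  change Coh.resTop X (op U) (Coh.toGlobal (X ↘ Spec (CommRingCat.of B)) (φ a)) =
    Coh.resTop X (op U) (Coh.toGlobal (X ↘ Spec (CommRingCat.of A)) a)
  exact congrArg (Coh.resTop X (op U)) h

variable (I : Ideal A)

lemma sIdeal_map (U : X.Opens) : sIdeal (I.map φ) U = sIdeal I U := by
  change (I.map φ).map (sMap B U) = I.map (sMap A U)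
  rw [Ideal.map_map]
  exact congrArg (Ideal.map · I) (RingHom.ext fun a => sMap_map φ hφ U a)

lemma killedBy_map {M : X.Modules} [M.IsQuasicoherent] :
    _root_.Formal.KilledBy (I.map φ) M ↔ _root_.Formal.KilledBy I M := by
  rw [killedBy_iff, killedBy_iff]
  simp only [sIdeal_map φ hφ I]

/-- Formal modules do not depend on the ring of coefficients. -/
theorem isCohFormal_map {G : ℕᵒᵖ ⥤ X.Modules} (hG : _root_.Formal.IsCohFormal I G) :
    _root_.Formal.IsCohFormal (I.map φ) G := by
  haveI := fun n => (hG.1 n).1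
  refine ⟨hG.1, fun n => ?_, fun n => ?_⟩
  · rw [← Ideal.map_pow]
    exact (killedBy_map φ hφ _).2 (hG.2.1 n)
  · refine Formal.Sys.exists_isIso_desc _ _ (fun U hU => (Formal.Sys.succ_spec hG n hU).1) fun U hU s => ?_
    rw [sIdeal_pow, sIdeal_map φ hφ]
    exact (Formal.Sys.succ_spec hG n hU).2 s

/-- Completions do not depend on the ring of coefficients. -/
theorem exists_completion_iso {M : X.Modules} (hM : Coh.IsCoh M) :
    ∃ e : _root_.Formal.completion (I.map φ) M ≅ _root_.Formal.completion I M,
      ∀ n, cπ (I.map φ) M n ≫ e.hom.app (op n) = cπ I M n := by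
  haveI := hM.1
  refine Formal.Sys.exists_completion_iso (isCohFormal_map φ hφ I (Formal.Compl.isCohFormal_completion I hM))
    (fun n => cπ I M n) (fun n => cπ_comp I M (Nat.le_succ n)) (fun n U hU => cπ_surjective I n hU)
    fun n U hU s => ?_
  rw [sIdeal_map φ hφ]
  exact cπ_eq_zero_iff I n hU s

end Groth.Agent.H78.Proper.Coeff

namespace Groth.Agent.H78.Proper.Coeff

open Groth.Agent.H78.Formal.Elem

variable {A : Type u} [CommRing A] {X Y : Scheme.{u}} [X.Over (Spec (CommRingCat.of A))]
  [Y.Over (Spec (CommRingCat.of A))] {f : X ⟶ Y}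
  (hf : f ≫ (Y ↘ Spec (CommRingCat.of A)) = X ↘ Spec (CommRingCat.of A))
  {L : Y.Modules ⥤ X.Modules} (adj : L ⊣ Scheme.Modules.pushforward f)

include hf adj

/-- Left adjoints of direct images commute with completion, compatibly with the projections. -/
theorem exists_completion_comp (I : Ideal A) (M : Y.Modules) :
    ∃ e : _root_.Formal.completion I (L.obj M) ≅ _root_.Formal.completion I M ⋙ L,
      ∀ n, cπ I (L.obj M) n ≫ e.hom.app (op n) = L.map (cπ I M n) := by
  have hd : ∀ n, ∃ h : _root_.Formal.smulFamily (I ^ (n + 1)) (L.obj M) ≫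
      L.map (_root_.Formal.modPowπ I (n + 1) M) = 0, IsIso (cokernel.desc _ _ h) := fun n => by
    have h : _root_.Formal.smulFamily (I ^ (n + 1)) M ≫ _root_.Formal.modPowπ I (n + 1) M = 0 :=
      cokernel.condition _
    haveI : IsIso (cokernel.desc _ (_root_.Formal.modPowπ I (n + 1) M) h) := by
      have e : cokernel.desc _ (_root_.Formal.modPowπ I (n + 1) M) h = 𝟙 _ :=
        coequalizer.hom_ext ((cokernel.π_desc _ _ _).trans (Category.comp_id _).symm)
      rw [e]
      exact IsIso.id _
    exact Formal.PullSys.exists_isIso_desc_map hf adj _ h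
  choose h hiso using hd
  let app : ∀ n, _root_.Formal.modPow I (n + 1) (L.obj M) ⟶ L.obj (_root_.Formal.modPow I (n + 1) M) :=
    fun n => cokernel.desc _ _ (h n)
  let β : _root_.Formal.completion I (L.obj M) ⟶ _root_.Formal.completion I M ⋙ L :=
    NatTrans.ofOpSequence app fun n => by
      simp only [_root_.Formal.completion, Functor.comp_map, Functor.ofOpSequence_map_homOfLE_succ]
      refine coequalizer.hom_ext ?_
      change _root_.Formal.modPowπ I (n + 1 + 1) (L.obj M) ≫
          _root_.Formal.modPowTrans I (n + 1) (L.obj M) ≫ app n =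
        _root_.Formal.modPowπ I (n + 1 + 1) (L.obj M) ≫ app (n + 1) ≫
          L.map (_root_.Formal.modPowTrans I (n + 1) M)
      rw [← Category.assoc, _root_.Formal.modPowπ_trans]
      refine (cokernel.π_desc _ _ (h n)).trans ?_
      refine Eq.trans ?_ (congrArg (· ≫ L.map (_root_.Formal.modPowTrans I (n + 1) M))
        (cokernel.π_desc _ _ (h (n + 1)))).symm |>.trans (Category.assoc _ _ _)
      rw [← L.map_comp, _root_.Formal.modPowπ_trans]
  haveI : ∀ n, IsIso (β.app n) := fun n => hiso n.unop
  haveI := NatIso.isIso_of_isIso_app β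
  exact ⟨asIso β, fun n => cokernel.π_desc _ _ (h n)⟩

end Groth.Agent.H78.Proper.Coeff
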