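import Groth.Agent.H78.Rees.Consequences
import Groth.Agent.H78.Proper.Coeff
import Groth.Agent.H78.Formal.Extend
import Groth.Agent.H78.Faithful.Main
import Groth.Agent.H78.Existence.AmpleVanish
import Groth.Agent.Lib.Snapper.Finite

/-!
# Sections of the reductions along a proper morphism, with uniform bounds
-/

set_option linter.style.haveILetI false
set_option linter.unusedSectionVars false

noncomputable section

universe u

open CategoryTheory Limits AlgebraicGeometry Opposite TopologicalSpace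

namespace Groth.Agent.H78.Proper.PushBound

open Groth.Agent.Lib Groth.Agent.Lib.CohBasics.Affine Groth.Agent.H78.Formal.Sections
  Groth.Agent.H78.Formal.Elem Groth.Agent.H78.FormalFun.Basic
open Groth.Agent.Lib.Curves.GlobalSections (h0Equiv h0Equiv_smul)

section Global

variable {R : Type u} [CommRing R] [IsNoetherianRing R] {X : Scheme.{u}}
  [X.Over (Spec (CommRingCat.of R))] [IsProper (X ↘ Spec (CommRingCat.of R))]

lemma completion_map_eq (J : Ideal R) (F : X.Modules) {n k : ℕ} (h : n ≤ k) :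
    Formal2.modPowLE J (Nat.succ_le_succ h) F = (_root_.Formal.completion J F).map (homOfLE h).op :=
  (Rees.Consequences.completion_map J F h).symm

/-- The theorem on formal functions for global sections, with one bound. -/
theorem exists_shift (J : Ideal R) {F : X.Modules} (hF : Coh.IsCoh F) :
    ∃ c : ℕ, ∀ n : ℕ,
      (∀ s : Γ(F, ⊤), (cπ J F (n + c)).app ⊤ s = 0 →
        s ∈ sIdeal (J ^ (n + 1)) (⊤ : X.Opens) • (⊤ : Submodule Γ(X, ⊤) Γ(F, ⊤))) ∧
      (∀ u : Γ((_root_.Formal.completion J F).obj (op (n + c)), ⊤), ∃ s : Γ(F, ⊤),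
        (cπ J F n).app ⊤ s = tr (_root_.Formal.completion J F) ⊤ (Nat.le_add_right n c) u) := by
  haveI := Existence.AmpleVanish.isNoetherian_of_proper R (X := X)
  have hfin : ∀ N : X.Modules, Coh.IsCoh N → ∀ q, Module.Finite R (Coh.HH X N q) := fun N hN q =>
    Groth.Agent.Lib.ProperFin.Assembly.qfin_of_isCoh Groth.Agent.Lib.Snapper.Finite.facts N hN q
  obtain ⟨c₁, h₁⟩ := Rees.Consequences.kernels_adically_small (I := J) hfin hF 0
  obtain ⟨c₂, h₂⟩ := Rees.Consequences.mittag_leffler (I := J) hfin hF 0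
  refine ⟨c₁ + c₂ + 1, fun n => ⟨fun s hs => ?_, fun u => ?_⟩⟩
  · obtain ⟨z, rfl⟩ := (h0Equiv F).surjective s
    have hz : H (A := R) 0 (_root_.Formal.modPowπ J (n + (c₁ + c₂ + 1) + 1) F) z = 0 := by
      apply (h0Equiv _).injective
      rw [Faithful.Main.h0Equiv_H, map_zero]
      exact hs
    have h3 := Submodule.smul_mono_left (N := (⊤ : Submodule R (Coh.HH X F 0)))
      (Ideal.pow_le_pow_right (I := J) (show n + 1 ≤ n + (c₁ + c₂ + 1) - c₁ by omega))
      (h₁ _ (by omega) z hz)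
    refine Submodule.smul_induction_on h3 (fun a ha y _ => ?_) fun a b ha hb => ?_
    · rw [show h0Equiv F (a • y) = sMap R (⊤ : X.Opens) a • h0Equiv F y from
        (h0Equiv_smul F (Coh.toGlobal _ a) y).trans ?_]
      · exact Submodule.smul_mem_smul (mem_sIdeal ha) trivial
      · refine congrArg (· • h0Equiv F y) ?_
        change _ = Coh.resTop X (op ⊤) (Coh.toGlobal _ a)
        exact (ConcreteCategory.congr_hom (X.presheaf.map_id (op ⊤)) _).symm
    · rw [map_add]; exact add_mem ha hb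
  · obtain ⟨y, rfl⟩ := (h0Equiv _).surjective u
    obtain ⟨x, hx⟩ : H (A := R) 0 (Formal2.modPowLE J (Nat.succ_le_succ (Nat.le_add_right n (c₁ + c₂ + 1))) F) y ∈
        LinearMap.range (H (A := R) 0 (_root_.Formal.modPowπ J (n + 1) F)) :=
      h₂ n _ (Nat.le_add_right n (c₁ + c₂ + 1)) (by omega) ▸ ⟨y, rfl⟩
    refine ⟨h0Equiv F x, ?_⟩
    have e := congrArg (h0Equiv _) hx
    rw [Faithful.Main.h0Equiv_H, Faithful.Main.h0Equiv_H] at e
    rw [completion_map_eq] at e
    exact e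

end Global

section Base

variable {A : Type u} [CommRing A] {Y : Scheme.{u}} [Y.Over (Spec (CommRingCat.of A))]

/-- The structure map of an affine open, through its ring of functions. -/
lemma toSpecΓ_sMap (V : Y.Opens) :
    V.toSpecΓ ≫ Spec.map (CommRingCat.ofHom (sMap A V)) = V.ι ≫ (Y ↘ Spec (CommRingCat.of A)) := by
  have e : CommRingCat.ofHom (sMap A V) = (Scheme.ΓSpecIso (CommRingCat.of A)).inv ≫
      (Y ↘ Spec (CommRingCat.of A)).appTop ≫ Y.presheaf.map (homOfLE le_top).op := rfl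
  rw [e, Spec.map_comp, Spec.map_comp]
  simp only [Category.assoc]
  rw [Scheme.Opens.toSpecΓ_SpecMap_presheaf_map_top_assoc,
    ← Scheme.toSpecΓ_naturality_assoc, toSpecΓ_SpecMap_ΓSpecIso_inv, Category.comp_id]

end Base

section Affine

variable {A : Type u} [CommRing A] {X Y : Scheme.{u}} [X.Over (Spec (CommRingCat.of A))]
  [Y.Over (Spec (CommRingCat.of A))] {f : X ⟶ Y}

/-- The scalars on an open subscheme. -/
lemma sMap_ι (W : X.Opens) (U : (W : Scheme.{u}).Opens) (a : A) :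
    letI : (W : Scheme.{u}).Over (Spec (CommRingCat.of A)) := ⟨W.ι ≫ (X ↘ Spec (CommRingCat.of A))⟩
    sMap A U a = sMap A (W.ι ''ᵁ U) a := by
  letI : (W : Scheme.{u}).Over (Spec (CommRingCat.of A)) := ⟨W.ι ≫ (X ↘ Spec (CommRingCat.of A))⟩
  change (W : Scheme.{u}).presheaf.map (homOfLE (le_top (a := U))).op
      ((W.ι ≫ (X ↘ Spec (CommRingCat.of A))).appTop ((Scheme.ΓSpecIso (CommRingCat.of A)).inv a)) =
    X.presheaf.map (homOfLE (le_top (a := W.ι ''ᵁ U))).op
      ((X ↘ Spec (CommRingCat.of A)).appTop ((Scheme.ΓSpecIso (CommRingCat.of A)).inv a))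
  let x := (X ↘ Spec (CommRingCat.of A)).appTop ((Scheme.ΓSpecIso (CommRingCat.of A)).inv a)
  rw [Scheme.Hom.comp_appTop]
  change (W : Scheme.{u}).presheaf.map (homOfLE (le_top (a := U))).op (W.ι.appTop x) =
    X.presheaf.map (homOfLE (le_top (a := W.ι ''ᵁ U))).op x
  simp only [Scheme.Opens.ι_appTop, Scheme.Opens.toScheme_presheaf_map]
  exact (ConcreteCategory.congr_hom (X.presheaf.map_comp _ _) x).symm

lemma res_res (N : X.Modules) {U U' : X.Opens} (h : U ≤ U') (h' : U' ≤ U) (m : Γ(N, U)) :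
    N.presheaf.map (homOfLE h).op (N.presheaf.map (homOfLE h').op m) = m :=
  (ConcreteCategory.congr_hom (N.presheaf.map_comp (homOfLE h').op (homOfLE h).op) m).symm.trans
    (ConcreteCategory.congr_hom (N.presheaf.map_id (op U)) m)

variable (hf : f ≫ (Y ↘ Spec (CommRingCat.of A)) = X ↘ Spec (CommRingCat.of A))
include hf

/-- Scalars of the base, seen on the preimage of an open. -/
lemma back_smul {V : Y.Opens} (hWt : (f ⁻¹ᵁ V).ι ''ᵁ ⊤ = f ⁻¹ᵁ V) (F : X.Modules) (a : A)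
    (y : Γ(F, (f ⁻¹ᵁ V).ι ''ᵁ ⊤)) :
    letI : ((f ⁻¹ᵁ V : X.Opens) : Scheme.{u}).Over (Spec (CommRingCat.of A)) :=
      ⟨(f ⁻¹ᵁ V).ι ≫ (X ↘ Spec (CommRingCat.of A))⟩
    (show Γ((Scheme.Modules.pushforward f).obj F, V) from
      F.presheaf.map (homOfLE hWt.ge).op
        (show Γ(F, (f ⁻¹ᵁ V).ι ''ᵁ ⊤) from
          sMap A (⊤ : ((f ⁻¹ᵁ V : X.Opens) : Scheme.{u}).Opens) a •
            (show Γ((Scheme.Modules.restrictFunctor (f ⁻¹ᵁ V).ι).obj F, ⊤) from y))) =
      sMap A V a • (show Γ((Scheme.Modules.pushforward f).obj F, V) from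
        F.presheaf.map (homOfLE hWt.ge).op y) := by
  letI : ((f ⁻¹ᵁ V : X.Opens) : Scheme.{u}).Over (Spec (CommRingCat.of A)) :=
    ⟨(f ⁻¹ᵁ V).ι ≫ (X ↘ Spec (CommRingCat.of A))⟩
  have e0 : ((f ⁻¹ᵁ V).ι.appIso ⊤).inv (sMap A (⊤ : ((f ⁻¹ᵁ V : X.Opens) : Scheme.{u}).Opens) a) =
      sMap A ((f ⁻¹ᵁ V).ι ''ᵁ ⊤) a := by
    rw [Scheme.Opens.ι_appIso]
    exact sMap_ι _ ⊤ a
  refine Eq.trans (b := @HSMul.hSMul Γ(X, f ⁻¹ᵁ V) Γ(F, f ⁻¹ᵁ V) _ _ (sMap A (f ⁻¹ᵁ V) a)
    (F.presheaf.map (homOfLE hWt.ge).op y)) ?_ ?_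
  · refine (congrArg (F.presheaf.map (homOfLE hWt.ge).op) (congrArg (fun r : Γ(X, (f ⁻¹ᵁ V).ι ''ᵁ ⊤) =>
      @HSMul.hSMul Γ(X, (f ⁻¹ᵁ V).ι ''ᵁ ⊤) Γ(F, (f ⁻¹ᵁ V).ι ''ᵁ ⊤) _ _ r y) e0)).trans ?_
    exact (F.map_smul (homOfLE hWt.ge) _ _).trans (congrArg (· • _) (res_sMap hWt.ge a))
  · exact congrArg (fun r : Γ(X, f ⁻¹ᵁ V) => @HSMul.hSMul Γ(X, f ⁻¹ᵁ V) Γ(F, f ⁻¹ᵁ V) _ _ r
      (F.presheaf.map (homOfLE hWt.ge).op y)) (Formal.PullSys.sMap_app hf V a).symm

/-- The theorem on formal functions over an affine open of the base, with one bound. -/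
theorem exists_shift_affine [IsProper f] [IsLocallyNoetherian Y] (I : Ideal A) {F : X.Modules}
    (hF : Coh.IsCoh F) {V : Y.Opens} (hV : IsAffineOpen V) :
    ∃ c : ℕ, ∀ n : ℕ,
      (∀ m : Γ((Scheme.Modules.pushforward f).obj F, V),
        ((Scheme.Modules.pushforward f).map (cπ I F (n + c))).app V m = 0 →
          m ∈ sIdeal I V ^ (n + 1) • (⊤ : Submodule Γ(Y, V) Γ((Scheme.Modules.pushforward f).obj F, V))) ∧
      (∀ u : Γ((Scheme.Modules.pushforward f).obj ((_root_.Formal.completion I F).obj (op (n + c))), V),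
        ∃ m : Γ((Scheme.Modules.pushforward f).obj F, V),
          ((Scheme.Modules.pushforward f).map (cπ I F n)).app V m =
            ((Scheme.Modules.pushforward f).map
              ((_root_.Formal.completion I F).map (homOfLE (Nat.le_add_right n c)).op)).app V u) := by
  let W : X.Opens := f ⁻¹ᵁ V
  let R := Γ(Y, V)
  haveI : IsNoetherianRing R := IsLocallyNoetherian.component_noetherian (X := Y) ⟨V, hV⟩
  letI : (W : Scheme.{u}).Over (Spec (CommRingCat.of R)) := ⟨(f ∣_ V) ≫ hV.isoSpec.hom⟩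
  letI : (W : Scheme.{u}).Over (Spec (CommRingCat.of A)) := ⟨W.ι ≫ (X ↘ Spec (CommRingCat.of A))⟩
  haveI : IsProper ((W : Scheme.{u}) ↘ Spec (CommRingCat.of R)) :=
    inferInstanceAs (IsProper ((f ∣_ V) ≫ hV.isoSpec.hom))
  let φ : A →+* R := sMap A V
  have hφ : ((W : Scheme.{u}) ↘ Spec (CommRingCat.of R)) ≫ Spec.map (CommRingCat.ofHom φ) =
      (W : Scheme.{u}) ↘ Spec (CommRingCat.of A) := by
    change ((f ∣_ V) ≫ hV.isoSpec.hom) ≫ Spec.map (CommRingCat.ofHom φ) = W.ι ≫ _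
    rw [← hf, Category.assoc, IsAffineOpen.isoSpec_hom, toSpecΓ_sMap, morphismRestrict_ι_assoc]
  let ρ := Scheme.Modules.restrictFunctor W.ι
  let F' := ρ.obj F
  have hF' : Coh.IsCoh F' := Formal.Extend.isCoh_restr W.ι hF
  obtain ⟨c, hc⟩ := exists_shift (I.map φ) hF'
  obtain ⟨e₁, he₁⟩ := Coeff.exists_completion_iso φ hφ I hF'
  obtain ⟨e₂, he₂⟩ := Coeff.exists_completion_comp (f := W.ι) (X := (W : Scheme.{u})) rfl
    (Scheme.Modules.restrictAdjunction W.ι) I F
  let e : _root_.Formal.completion (I.map φ) F' ≅ _root_.Formal.completion I F ⋙ ρ := e₁ ≪≫ e₂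
  have he : ∀ n, cπ (I.map φ) F' n ≫ e.hom.app (op n) = ρ.map (cπ I F n) := fun n => by
    change cπ (I.map φ) F' n ≫ e₁.hom.app (op n) ≫ e₂.hom.app (op n) = _
    rw [← Category.assoc, he₁ n]
    exact he₂ n
  have hWt : W.ι ''ᵁ ⊤ = W := W.ι_image_top
  refine ⟨c, fun n => ⟨fun m hm => ?_, fun u => ?_⟩⟩
  · let s : Γ(F', ⊤) := F.presheaf.map (homOfLE hWt.le).op m
    have h0 : (cπ I F (n + c)).app W m = 0 := hm
    have h1 : (ρ.map (cπ I F (n + c))).app ⊤ s = 0 := by
      change (cπ I F (n + c)).app (W.ι ''ᵁ ⊤) (F.presheaf.map (homOfLE hWt.le).op m) = 0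
      rw [show (cπ I F (n + c)).app (W.ι ''ᵁ ⊤) (F.presheaf.map (homOfLE hWt.le).op m) =
        ((_root_.Formal.completion I F).obj (op (n + c))).presheaf.map (homOfLE hWt.le).op
          ((cπ I F (n + c)).app W m) from
        ConcreteCategory.congr_hom ((cπ I F (n + c)).mapPresheaf.naturality (homOfLE hWt.le).op) m, h0,
        map_zero]
    rw [← he] at h1
    have h2 := (hc n).1 s ((app_bijective (e.hom.app (op (n + c))) ⊤).1 (h1.trans (map_zero _).symm))
    rw [← Ideal.map_pow, Coeff.sIdeal_map φ hφ] at h2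
    let back : Γ(F', ⊤) →+ Γ((Scheme.Modules.pushforward f).obj F, V) :=
      (F.presheaf.map (homOfLE hWt.ge).op).hom
    have hres : back s = m := res_res F hWt.ge hWt.le m
    rw [← hres, ← sIdeal_pow]
    refine Submodule.smul_induction_on h2 (fun r hr y _ => ?_) fun a b ha hb => by
      rw [map_add]; exact add_mem ha hb
    induction hr using Submodule.span_induction generalizing y with
    | mem x hx =>
      obtain ⟨a, ha, rfl⟩ := hx
      have e1 : back (sMap A (⊤ : (W : Scheme.{u}).Opens) a • y) = sMap A V a • back y :=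
        back_smul hf hWt F a y
      exact e1 ▸ Submodule.smul_mem_smul (mem_sIdeal ha) trivial
    | zero => rw [zero_smul, map_zero]; exact zero_mem _
    | add x x' _ _ hx hx' => rw [add_smul, map_add]; exact add_mem (hx y trivial) (hx' y trivial)
    | smul x x' _ hx' => rw [smul_eq_mul, mul_comm, mul_smul]; exact hx' (x • y) trivial
  · let G := _root_.Formal.completion I F
    let u' : Γ(ρ.obj (G.obj (op (n + c))), ⊤) :=
      (G.obj (op (n + c))).presheaf.map (homOfLE hWt.le).op u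
    obtain ⟨v, hv⟩ := (app_bijective (e.hom.app (op (n + c))) ⊤).2 u'
    obtain ⟨s, hs⟩ := (hc n).2 v
    have h2 := congrArg ((e.hom.app (op n)).app ⊤) hs
    rw [app_tr e.hom, hv] at h2
    refine ⟨F.presheaf.map (homOfLE hWt.ge).op s, ?_⟩
    change (cπ I F n).app W (F.presheaf.map (homOfLE hWt.ge).op s) =
      (G.map (homOfLE (Nat.le_add_right n c)).op).app W u
    rw [show (cπ I F n).app W (F.presheaf.map (homOfLE hWt.ge).op s) =
      (G.obj (op n)).presheaf.map (homOfLE hWt.ge).op ((cπ I F n).app (W.ι ''ᵁ ⊤) s) from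
        ConcreteCategory.congr_hom ((cπ I F n).mapPresheaf.naturality (homOfLE hWt.ge).op) s]
    have h3 : (cπ I F n).app (W.ι ''ᵁ ⊤) s =
        (G.map (homOfLE (Nat.le_add_right n c)).op).app (W.ι ''ᵁ ⊤)
          ((G.obj (op (n + c))).presheaf.map (homOfLE hWt.le).op u) :=
      (app_eq (he n) ⊤ s).symm.trans h2
    rw [h3, show (G.map (homOfLE (Nat.le_add_right n c)).op).app (W.ι ''ᵁ ⊤)
          ((G.obj (op (n + c))).presheaf.map (homOfLE hWt.le).op u) =
        (G.obj (op n)).presheaf.map (homOfLE hWt.le).op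
          ((G.map (homOfLE (Nat.le_add_right n c)).op).app W u) from
      ConcreteCategory.congr_hom
        ((G.map (homOfLE (Nat.le_add_right n c)).op).mapPresheaf.naturality (homOfLE hWt.le).op) u]
    exact res_res _ hWt.ge hWt.le _

end Affine

end Groth.Agent.H78.Proper.PushBound
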