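import Groth.Agent.H78.Proper.UnitSections
import Groth.Agent.H78.Proper.PushBound
import Mathlib.RingTheory.AdicCompletion.Completeness
import Mathlib.RingTheory.AdicCompletion.Algebra

/-!
# The completion of an affine open and pulling back to it
-/

set_option linter.style.haveILetI false
set_option linter.unusedSectionVars false

noncomputable section

universe u

open CategoryTheory Limits AlgebraicGeometry Opposite TopologicalSpace
open ZarCoh.FlatBC.PullbackSections

namespace Groth.Agent.H78.Proper.AffineCompl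

open Groth.Agent.Lib Groth.Agent.Lib.CohBasics.Affine Groth.Agent.H78.Formal.Sections
  Groth.Agent.H78.Formal.Elem

variable {A : Type u} [CommRing A] {Y : Scheme.{u}} [Y.Over (Spec (CommRingCat.of A))]
variable (I : Ideal A) {V : Y.Opens} (hV : IsAffineOpen V)

include hV in
lemma fromSpec_over :
    hV.fromSpec ≫ (Y ↘ Spec (CommRingCat.of A)) = Spec.map (CommRingCat.ofHom (sMap A V)) := by
  rw [IsAffineOpen.fromSpec, Category.assoc, ← PushBound.toSpecΓ_sMap V, ← Category.assoc,
    ← IsAffineOpen.isoSpec_hom hV, Iso.inv_hom_id, Category.id_comp]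

/-- Functions pulled back along a map to an affine open. -/
lemma appLE_fromSpec {B : CommRingCat.{u}} (k : Γ(Y, V) ⟶ B) (e : ⊤ ≤ (Spec.map k ≫ hV.fromSpec) ⁻¹ᵁ V) :
    (Spec.map k ≫ hV.fromSpec).appLE V ⊤ e = k ≫ (Scheme.ΓSpecIso B).inv := by
  have e1 : (⊤ : (Spec Γ(Y, V)).Opens) ≤ hV.fromSpec ⁻¹ᵁ V := hV.fromSpec_preimage_self.ge
  rw [← Scheme.Hom.appLE_comp_appLE (Spec.map k) hV.fromSpec V ⊤ ⊤ e1 le_top]
  have h1 : hV.fromSpec.appLE V ⊤ e1 = (Scheme.ΓSpecIso Γ(Y, V)).inv := by
    rw [Scheme.Hom.appLE, hV.fromSpec_app_self, Category.assoc, ← Functor.map_comp]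
    exact (congrArg (_ ≫ ·) ((Spec Γ(Y, V)).presheaf.map_id _)).trans (Category.comp_id _)
  have h2 : (Spec.map k).appLE ⊤ ⊤ le_top = (Spec.map k).appTop := by
    rw [Scheme.Hom.appLE]
    exact (congrArg (_ ≫ ·) ((Spec B).presheaf.map_id _)).trans (Category.comp_id _)
  rw [h1, h2]
  exact (Scheme.ΓSpecIso_inv_naturality k).symm

lemma preimage_fromSpec {B : CommRingCat.{u}} (k : Γ(Y, V) ⟶ B) :
    (⊤ : (Spec B).Opens) ≤ (Spec.map k ≫ hV.fromSpec) ⁻¹ᵁ V := by
  rw [Scheme.Hom.comp_preimage, hV.fromSpec_preimage_self]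
  exact le_top

variable (V) in
/-- The completed ring of functions. -/
abbrev Scompl : Type u := AdicCompletion (sIdeal I V) Γ(Y, V)

variable (V) in
/-- The map from the ring of coefficients. -/
abbrev φS : A →+* Scompl I V := (algebraMap Γ(Y, V) (Scompl I V)).comp (sMap A V)

/-- The completed affine open. -/
abbrev gS : Spec (CommRingCat.of (Scompl I V)) ⟶ Y :=
  Spec.map (CommRingCat.ofHom (algebraMap Γ(Y, V) (Scompl I V))) ≫ hV.fromSpec

lemma gS_over : gS I hV ≫ (Y ↘ Spec (CommRingCat.of A)) = Spec.map (CommRingCat.ofHom (φS I V)) := by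
  rw [gS, Category.assoc, fromSpec_over, ← Spec.map_comp]
  rfl

variable [IsLocallyNoetherian Y]

include hV in
lemma fg_sIdeal : (sIdeal I V).FG :=
  haveI := IsLocallyNoetherian.component_noetherian (X := Y) ⟨V, hV⟩
  IsNoetherian.noetherian _

include hV in
lemma exists_approx (n : ℕ) (x : Scompl I V) :
    ∃ r : Γ(Y, V), x - algebraMap Γ(Y, V) (Scompl I V) r ∈
      (sIdeal I V ^ n).map (algebraMap Γ(Y, V) (Scompl I V)) := by
  obtain ⟨r, hr⟩ := Submodule.Quotient.mk_surjective _ (AdicCompletion.eval (sIdeal I V) Γ(Y, V) n x)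
  refine ⟨r, ?_⟩
  have h : x - algebraMap Γ(Y, V) (Scompl I V) r ∈
      LinearMap.ker (AdicCompletion.eval (sIdeal I V) Γ(Y, V) n) := by
    rw [LinearMap.mem_ker, map_sub, ← hr]
    exact sub_self _
  rw [← AdicCompletion.pow_smul_top_eq_ker_eval (fg_sIdeal I hV)] at h
  rw [Ideal.smul_top_eq_map] at h
  exact h

variable (G : Y.Modules) [G.IsQuasicoherent]

/-- Sections of a module killed by a power of the ideal do not change. -/
theorem bijective_pbRes (n : ℕ) (hkill : ∀ a ∈ sIdeal I V ^ n, ∀ m : Γ(G, V), a • m = 0) :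
    Function.Bijective (pbRes (gS I hV) G (preimage_fromSpec hV _)) := by
  set ψ := CommRingCat.ofHom (algebraMap Γ(Y, V) (Scompl I V))
  let S := CommRingCat.of (Scompl I V)
  refine ⟨UnitSections.injective_pbRes _ G hV (isAffineOpen_top _) _ _ hkill
      ((AdicCompletion.evalₐ (sIdeal I V) n).toRingHom.comp (Scheme.ΓSpecIso S).hom.hom) fun r => ?_,
    UnitSections.surjective_pbRes _ G hV (isAffineOpen_top _) _ _ hkill fun r' => ?_⟩
  · rw [appLE_fromSpec hV ψ]
    change AdicCompletion.evalₐ (sIdeal I V) n ((Scheme.ΓSpecIso S).hom ((Scheme.ΓSpecIso S).inv (ψ r))) = _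
    rw [Iso.inv_hom_id_apply]
    exact (AdicCompletion.evalₐ (sIdeal I V) n).commutes r
  · obtain ⟨r, hr⟩ := exists_approx I hV n ((Scheme.ΓSpecIso S).hom r')
    refine ⟨r, ?_⟩
    rw [appLE_fromSpec hV ψ, CommRingCat.hom_comp, ← Ideal.map_map]
    have h := Ideal.mem_map_of_mem (Scheme.ΓSpecIso S).inv.hom hr
    rw [map_sub] at h
    exact (congrArg (fun z => z - _) (Iso.hom_inv_id_apply (Scheme.ΓSpecIso S) r')).symm ▸ h

end Groth.Agent.H78.Proper.AffineCompl
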