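import Groth.Agent.Lib.QCoh.Localizing
import Groth.Agent.Lib.QCoh.Closure
import Groth.Agent.Lib.CohBasics.Closure

/-!
# Maps of coherent modules bijective over a basic open
-/

set_option linter.style.haveILetI false

noncomputable section

universe u

open CategoryTheory Limits AlgebraicGeometry Opposite TopologicalSpace

namespace Groth.Agent.H78.Proper.Localised

open Groth.Agent.Lib Groth.Agent.Lib.CohBasics.Affine Groth.Agent.Lib.QCoh.Localizing

variable {T : Scheme.{u}} {M N : T.Modules} {U : T.Opens}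

/-- A map bijective over `D(r)` has kernel and cokernel on `U` killed by a fixed power of `r`. -/
theorem exists_pow (hU : IsAffineOpen U) [IsNoetherianRing Γ(T, U)] (hM : Coh.IsCoh M) (hN : Coh.IsCoh N)
    (φ : M ⟶ N) (r : Γ(T, U)) (hφ : Function.Bijective (φ.app (T.basicOpen r))) :
    ∃ t : ℕ, (∀ x : Γ(M, U), φ.app U x = 0 → r ^ t • x = 0) ∧
      ∀ y : Γ(N, U), ∃ x : Γ(M, U), φ.app U x = r ^ t • y := by
  haveI := hM.1
  haveI := hN.1
  haveI := CohBasics.Closure.finite_sections hM hU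
  haveI := CohBasics.Closure.finite_sections hN hU
  have hlM : Localizes M r := localizes_of_isAffineOpen _ hU r
  have hlN : Localizes N r := localizes_of_isAffineOpen _ hU r
  have hk : ∀ x ∈ LinearMap.ker (secₗ φ U), ∃ n, r ^ n • x = 0 := fun x hx => by
    refine hlM.sep x (hφ.1 ?_)
    rw [LinearMap.mem_ker, secₗ_apply] at hx
    rw [← res_app, hx, map_zero, map_zero]
  have hc : ∀ y : Γ(N, U), ∃ n, r ^ n • y ∈ LinearMap.range (secₗ φ U) := fun y => by
    obtain ⟨x₁, hx₁⟩ := hφ.2 (res N (T.basicOpen_le r) y)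
    obtain ⟨n, x, hx⟩ := hlM.ext' x₁
    obtain ⟨k, hk⟩ := hlN.sep.exists_pow_smul_eq (t := φ.app U x) (t' := r ^ n • y) (by
      rw [res_app, hx, Scheme.Modules.Hom.app_smul, hx₁, res_smul, map_pow])
    refine ⟨k + n, r ^ k • x, ?_⟩
    rw [secₗ_apply, Scheme.Modules.Hom.app_smul, hk, pow_add, mul_smul]
  obtain ⟨s, hs⟩ := IsNoetherian.noetherian (LinearMap.ker (secₗ φ U))
  obtain ⟨s', hs'⟩ := Module.Finite.fg_top (R := Γ(T, U)) (M := Γ(N, U))
  choose n hn using hk
  choose n' hn' using hc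
  have hmem : ∀ x : (s : Set Γ(M, U)), x.1 ∈ LinearMap.ker (secₗ φ U) := fun x => hs ▸ Submodule.subset_span x.2
  let t₁ := s.attach.sup fun x => n x.1 (hmem x)
  obtain ⟨t, ht₁, ht₂⟩ : ∃ t, t₁ ≤ t ∧ s'.sup n' ≤ t := ⟨max t₁ (s'.sup n'), le_max_left _ _, le_max_right _ _⟩
  refine ⟨t, fun x hx => ?_, fun y => ?_⟩
  · have hx' : x ∈ Submodule.span Γ(T, U) (s : Set Γ(M, U)) := by
      rw [hs, LinearMap.mem_ker, secₗ_apply]; exact hx
    clear hx
    induction hx' using Submodule.span_induction with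
    | mem z hz =>
      obtain ⟨d, hd⟩ := Nat.exists_eq_add_of_le
        ((Finset.le_sup (f := fun x : (s : Set Γ(M, U)) => n x.1 (hmem x)) (s.mem_attach ⟨z, hz⟩)).trans ht₁)
      rw [hd, Nat.add_comm, pow_add, mul_smul, hn z _, smul_zero]
    | zero => exact smul_zero _
    | add a b _ _ iha ihb => rw [smul_add, iha, ihb, add_zero]
    | smul a z _ ih => rw [smul_comm, ih, smul_zero]
  · have hy : y ∈ Submodule.span Γ(T, U) (s' : Set Γ(N, U)) := by rw [hs']; trivial
    suffices h : r ^ t • y ∈ LinearMap.range (secₗ φ U) by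
      obtain ⟨x, hx⟩ := h
      exact ⟨x, hx⟩
    induction hy using Submodule.span_induction with
    | mem z hz =>
      obtain ⟨d, hd⟩ := Nat.exists_eq_add_of_le ((Finset.le_sup (f := n') hz).trans ht₂)
      rw [hd, Nat.add_comm, pow_add, mul_smul]
      exact Submodule.smul_mem _ _ (hn' z)
    | zero => rw [smul_zero]; exact zero_mem _
    | add a b _ _ iha ihb => rw [smul_add]; exact add_mem iha ihb
    | smul a z _ ih => rw [smul_comm]; exact Submodule.smul_mem _ _ ih

end Groth.Agent.H78.Proper.Localised
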