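import Groth.Agent.H78.Formal.Compl
import Groth.Agent.H78.Formal.Elem

/-!
# Cokernels of maps of coherent formal modules; algebraization from an exact sequence
-/

set_option linter.style.haveILetI false

noncomputable section

universe u

open CategoryTheory Limits AlgebraicGeometry Opposite TopologicalSpace

namespace Groth.Agent.H78.Proper.Exact

open Groth.Agent.Lib Groth.Agent.Lib.CohBasics.Affine Groth.Agent.H78.Formal.Sections
  Groth.Agent.H78.Formal.Elem

variable {A : Type u} [CommRing A] {X : Scheme.{u}} [X.Over (Spec (CommRingCat.of A))]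
variable {I : Ideal A} {F G : ℕᵒᵖ ⥤ X.Modules}

lemma exists_preimage {M N : X.Modules} [M.IsQuasicoherent] [N.IsQuasicoherent] (φ : M ⟶ N)
    {U : X.Opens} (hU : IsAffineOpen U) (s : Γ(N, U)) (hs : (cokernel.π φ).app U s = 0) :
    ∃ t, φ.app U t = s := by
  haveI := QCoh.Closure.isQCoh_cokernel φ
  haveI := QCoh.Closure.isQCoh_kernel (cokernel.π φ)
  obtain ⟨v, hv⟩ := exists_kernel_section (cokernel.π φ) s hs
  obtain ⟨t, ht⟩ := QCoh.Closure.sections_surjective_of_epi (Abelian.factorThruImage φ) hU v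
  refine ⟨t, ?_⟩
  rw [← hv, ← ht]
  exact (app_eq (Abelian.image.fac φ) U t).symm

section Coker

variable [IsLocallyNoetherian X] (φ : ∀ n, F.obj (op n) ⟶ G.obj (op n))
  (hφ : ∀ n, F.map (homOfLE (Nat.le_succ n)).op ≫ φ n = φ (n + 1) ≫ G.map (homOfLE (Nat.le_succ n)).op)

/-- The cokernels. -/
def coker : ℕᵒᵖ ⥤ X.Modules :=
  Functor.ofOpSequence (X := fun n => cokernel (φ n)) fun n =>
    cokernel.map (φ (n + 1)) (φ n) (F.map (homOfLE (Nat.le_succ n)).op)
      (G.map (homOfLE (Nat.le_succ n)).op) (hφ n).symm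

/-- The projection to the cokernels. -/
def π (n : ℕ) : G.obj (op n) ⟶ (coker φ hφ).obj (op n) := cokernel.π (φ n)

omit [IsLocallyNoetherian X] in
lemma π_map (n : ℕ) : π φ hφ (n + 1) ≫ (coker φ hφ).map (homOfLE (Nat.le_succ n)).op =
    G.map (homOfLE (Nat.le_succ n)).op ≫ π φ hφ n := by
  simp only [coker, π, Functor.ofOpSequence_map_homOfLE_succ]
  exact cokernel.π_desc _ _ _

theorem isCohFormal_coker (hF : _root_.Formal.IsCohFormal I F) (hG : _root_.Formal.IsCohFormal I G) :
    _root_.Formal.IsCohFormal I (coker φ hφ) := by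
  haveI := fun n => Formal.Sys.qcoh hF n
  haveI := fun n => Formal.Sys.qcoh hG n
  haveI : ∀ n, ((coker φ hφ).obj (op n)).IsQuasicoherent := fun n => QCoh.Closure.isQCoh_cokernel (φ n)
  haveI hπ : ∀ n, Epi (π φ hφ n) := fun n => inferInstanceAs (Epi (cokernel.π (φ n)))
  refine ⟨fun n => CohBasics.Closure.isCoh_cokernel (φ n) (hF.1 n).1 (hG.1 n), fun n a ha => ?_, fun n => ?_⟩
  · rw [← cancel_epi (π φ hφ n), ← smulMod_comp, hG.2.1 n a ha, zero_comp, comp_zero]
  refine Formal.Sys.exists_isIso_desc (I ^ (n + 1)) ((coker φ hφ).map (homOfLE (Nat.le_succ n)).op)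
    (fun U hU w => ?_) fun U hU s => ?_
  · obtain ⟨g, rfl⟩ := QCoh.Closure.sections_surjective_of_epi (π φ hφ n) hU w
    obtain ⟨g', rfl⟩ := (Formal.Sys.succ_spec hG n hU).1 g
    exact ⟨_, app_eq (π_map φ hφ n) U g'⟩
  · obtain ⟨g, rfl⟩ := QCoh.Closure.sections_surjective_of_epi (π φ hφ (n + 1)) hU s
    have e : ((coker φ hφ).map (homOfLE (Nat.le_succ n)).op).app U ((π φ hφ (n + 1)).app U g) =
        (π φ hφ n).app U ((G.map (homOfLE (Nat.le_succ n)).op).app U g) := app_eq (π_map φ hφ n) U g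
    have hr : LinearMap.range (secₗ (π φ hφ (n + 1)) U) = ⊤ :=
      LinearMap.range_eq_top.2 (QCoh.Closure.sections_surjective_of_epi (π φ hφ (n + 1)) hU)
    have hmap : (sIdeal (I ^ (n + 1)) U • (⊤ : Submodule Γ(X, U) Γ(G.obj (op (n + 1)), U))).map
        (secₗ (π φ hφ (n + 1)) U) = sIdeal (I ^ (n + 1)) U • ⊤ := by
      rw [Submodule.map_smul'', Submodule.map_top, hr]
    rw [e, ← hmap, sIdeal_pow]
    constructor
    · intro h
      obtain ⟨f, hf⟩ := exists_preimage (φ n) hU _ h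
      obtain ⟨f', rfl⟩ := (Formal.Sys.succ_spec hF n hU).1 f
      have h1 : (G.map (homOfLE (Nat.le_succ n)).op).app U (g - (φ (n + 1)).app U f') = 0 := by
        rw [map_sub, sub_eq_zero, ← hf]
        exact app_eq (hφ n) U f'
      refine ⟨_, ((Formal.Sys.succ_spec hG n hU).2 _).1 h1, ?_⟩
      rw [secₗ_apply, map_sub]
      exact sub_eq_self.2 (app_eq (cokernel.condition (φ (n + 1))) U f')
    · rintro ⟨g', hg', hgg⟩
      rw [← e, ← hgg]
      refine (app_eq (π_map φ hφ n) U g').trans ?_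
      change (π φ hφ n).app U ((G.map (homOfLE (Nat.le_succ n)).op).app U g') = 0
      rw [((Formal.Sys.succ_spec hG n hU).2 g').2 hg', map_zero]

end Coker

section Algebraize

variable [IsNoetherian X] {C D : ℕᵒᵖ ⥤ X.Modules} {B P : X.Modules}

/-- A formal module `F` which is, up to pro-zero kernels, the kernel of the reductions of a morphism
of coherent modules is the completion of its kernel. -/
theorem exists_algebraization (hF : _root_.Formal.IsCohFormal I F) (hB : Coh.IsCoh B) (hP : Coh.IsCoh P)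
    (b : B ⟶ P) (hC : ∀ n, Coh.IsCoh (C.obj (op n))) (πB : ∀ n, B ⟶ C.obj (op n))
    (hBc : ∀ n, πB (n + 1) ≫ C.map (homOfLE (Nat.le_succ n)).op = πB n)
    (hBk : ∀ n (U : X.Opens), IsAffineOpen U → ∀ s, (πB n).app U s = 0 ↔
      s ∈ sIdeal I U ^ (n + 1) • (⊤ : Submodule Γ(X, U) Γ(B, U)))
    (hBs : ∀ n (U : X.Opens), IsAffineOpen U → Function.Surjective ((πB n).app U))
    (πP : ∀ n, P ⟶ D.obj (op n))
    (hPk : ∀ n (U : X.Opens), IsAffineOpen U → ∀ s, (πP n).app U s = 0 ↔
      s ∈ sIdeal I U ^ (n + 1) • (⊤ : Submodule Γ(X, U) Γ(P, U)))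
    (a : F ⟶ C) (c : ∀ n, C.obj (op n) ⟶ D.obj (op n)) (hbc : ∀ n, πB n ≫ c n = b ≫ πP n)
    (hac : ∀ n, a.app (op n) ≫ c n = 0)
    (hex : ∀ n (U : X.Opens), IsAffineOpen U → ∀ y, (c n).app U y = 0 → ∃ f, (a.app (op n)).app U f = y)
    (k : ℕ) (hk : ∀ x : X, ∃ U : X.Opens, IsAffineOpen U ∧ x ∈ U ∧ ∀ (n : ℕ) (f : Γ(F.obj (op (n + k)), U)),
      (a.app (op (n + k))).app U f = 0 → tr F U (Nat.le_add_right n k) f = 0) :
    ∃ M : X.Modules, Coh.IsCoh M ∧ Nonempty (_root_.Formal.completion I M ≅ F) := by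
  haveI := hB.1
  haveI := hP.1
  haveI := fun n => Formal.Sys.qcoh hF n
  haveI := fun n => (hC n).1
  have hMc : Coh.IsCoh (kernel b) := CohBasics.Closure.isCoh_kernel b hB hP.1
  haveI := hMc.1
  let ι := kernel.ι b
  let trF : ∀ n, F.obj (op (n + k)) ⟶ F.obj (op n) := fun n => F.map (homOfLE (Nat.le_add_right n k)).op
  let w : ∀ n, kernel b ⊞ F.obj (op (n + k)) ⟶ C.obj (op (n + k)) := fun n =>
    biprod.desc (ι ≫ πB (n + k)) (-a.app (op (n + k)))
  let pr : ∀ n, kernel (w n) ⟶ kernel b := fun n => kernel.ι (w n) ≫ biprod.fst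
  haveI : ∀ n, (kernel b ⊞ F.obj (op (n + k))).IsQuasicoherent := fun n =>
    (CohBasics.Closure.isCoh_biprod hMc (hF.1 (n + k))).1
  haveI : ∀ n, (kernel (w n)).IsQuasicoherent := fun n => QCoh.Closure.isQCoh_kernel (w n)
  have hw : ∀ n (U : X.Opens) (z : Γ(kernel b ⊞ F.obj (op (n + k)), U)), (w n).app U z = 0 ↔
      (a.app (op (n + k))).app U ((biprod.snd : kernel b ⊞ F.obj (op (n + k)) ⟶ _).app U z) =
        (ι ≫ πB (n + k)).app U ((biprod.fst : kernel b ⊞ F.obj (op (n + k)) ⟶ _).app U z) := fun n U z => by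
    have e : w n = biprod.fst ≫ (ι ≫ πB (n + k)) - biprod.snd ≫ a.app (op (n + k)) := by
      simp only [w]; rw [biprod.desc_eq, Preadditive.comp_neg, sub_eq_add_neg]
    rw [e]
    change (ι ≫ πB (n + k)).app U _ - (a.app (op (n + k))).app U _ = 0 ↔ _
    rw [sub_eq_zero, eq_comm]
    exact Iff.rfl
  have hbm : ∀ (U : X.Opens) (m : Γ(kernel b, U)), b.app U (ι.app U m) = 0 := fun U m =>
    kernel_app_eq_zero b m
  have hex' : ∀ n (U : X.Opens), IsAffineOpen U → ∀ m : Γ(kernel b, U),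
      ∃ f, (a.app (op n)).app U f = (πB n).app U (ι.app U m) := fun n U hU m => by
    refine hex n U hU _ ((app_eq (hbc n) U _).trans ?_)
    change (πP n).app U (b.app U (ι.app U m)) = 0
    rw [hbm, map_zero]
  haveI : ∀ n, Epi (pr n) := fun n => epi_of_cover _ fun x => by
    obtain ⟨U, hU, hx⟩ := exists_affine x
    refine ⟨U, hU, hx, fun m => ?_⟩
    obtain ⟨f, hf⟩ := hex' (n + k) U hU m
    obtain ⟨z, hz1, hz2⟩ := exists_biprod m f
    obtain ⟨t, ht⟩ := exists_kernel_section (w n) z ((hw n U z).2 (by rw [hz1, hz2, hf]; rfl))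
    exact ⟨t, (congrArg _ ht).trans hz1⟩
  have hdes : ∀ n, ∃ u : kernel b ⟶ F.obj (op n), pr n ≫ u = kernel.ι (w n) ≫ biprod.snd ≫ trF n := fun n => by
    refine exists_desc_cover (pr n) _ fun x => ?_
    obtain ⟨U, hU, hx, h0⟩ := hk x
    refine ⟨U, hU, hx, fun t ht => h0 n _ ?_⟩
    have h1 := (hw n U _).1 (kernel_app_eq_zero (w n) t)
    refine h1.trans ?_
    rw [show (biprod.fst : kernel b ⊞ F.obj (op (n + k)) ⟶ _).app U ((kernel.ι (w n)).app U t) = 0 from ht]
    exact map_zero _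
  choose u hu using hdes
  -- the characterisation
  have hchar : ∀ n (U : X.Opens), IsAffineOpen U → ∀ (m : Γ(kernel b, U)) (f : Γ(F.obj (op (n + k)), U)),
      (a.app (op (n + k))).app U f = (πB (n + k)).app U (ι.app U m) → (u n).app U m = (trF n).app U f := by
    intro n U hU m f hf
    obtain ⟨z, hz1, hz2⟩ := exists_biprod m f
    obtain ⟨t, ht⟩ := exists_kernel_section (w n) z ((hw n U z).2 (by rw [hz1, hz2, hf]; rfl))
    have h1 : (pr n).app U t = m := (congrArg _ ht).trans hz1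
    rw [← h1]
    refine (app_eq (hu n) U t).trans ?_
    change (trF n).app U ((biprod.snd : kernel b ⊞ F.obj (op (n + k)) ⟶ _).app U ((kernel.ι (w n)).app U t)) = _
    rw [ht, hz2]
  have hπtr : ∀ {n m : ℕ} (h : n ≤ m) (U : X.Opens) (s : Γ(B, U)), tr C U h ((πB m).app U s) = (πB n).app U s := by
    intro n m h U s
    induction m, h using Nat.le_induction with
    | base => exact tr_self C _ _
    | succ m h ih =>
      rw [← tr_tr C h (Nat.le_succ m), ← ih]
      exact congrArg _ (app_eq (hBc m) U s)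
  have hcompat : ∀ n, u (n + 1) ≫ F.map (homOfLE (Nat.le_succ n)).op = u n := fun n => by
    refine hom_ext_affine fun U hU m => ?_
    obtain ⟨f, hf⟩ := hex' (n + 1 + k) U hU m
    have hle : n + k ≤ n + 1 + k := by omega
    rw [hchar n U hU m (tr F U hle f) (by rw [app_tr, hf]; exact hπtr hle U _)]
    change tr F U (Nat.le_succ n) ((u (n + 1)).app U m) = tr F U (Nat.le_add_right n k) (tr F U hle f)
    rw [hchar (n + 1) U hU m f hf, tr_tr]
    exact tr_tr F (Nat.le_succ n) (Nat.le_add_right (n + 1) k) f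
  -- surjectivity
  have hus : ∀ n (U : X.Opens), IsAffineOpen U → Function.Surjective ((u n).app U) := fun n U hU f => by
    haveI := IsLocallyNoetherian.component_noetherian (X := X) ⟨U, hU⟩
    haveI := CohBasics.Closure.finite_sections hP hU
    obtain ⟨c₁, hc₁⟩ := Ideal.exists_pow_inf_eq_pow_smul (sIdeal I U) (LinearMap.range (secₗ b U))
    have hle : n + k ≤ n + k + c₁ := Nat.le_add_right _ _
    obtain ⟨f', hf'⟩ := (Formal.Sys.map_spec hF (show n ≤ n + k + c₁ by omega) hU).1 f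
    obtain ⟨x, hx⟩ := hBs (n + k + c₁) U hU ((a.app (op (n + k + c₁))).app U f')
    have h1 : b.app U x ∈ sIdeal I U ^ (n + k + c₁ + 1) • (⊤ : Submodule Γ(X, U) Γ(P, U)) ⊓
        LinearMap.range (secₗ b U) := by
      refine ⟨(hPk _ U hU _).1 ?_, x, rfl⟩
      refine (app_eq (hbc _) U x).symm.trans ?_
      change (c (n + k + c₁)).app U ((πB (n + k + c₁)).app U x) = 0
      rw [hx]
      exact app_eq (hac _) U f'
    rw [hc₁ _ (by omega), show n + k + c₁ + 1 - c₁ = n + k + 1 by omega] at h1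
    have h2 := Submodule.smul_mono le_rfl inf_le_right h1
    rw [← Submodule.map_top, ← Submodule.map_smul''] at h2
    obtain ⟨y, hy, hye⟩ := h2
    obtain ⟨m, hm⟩ := exists_kernel_section b (x - y) (by rw [map_sub, sub_eq_zero]; exact hye.symm)
    refine ⟨m, ?_⟩
    rw [hchar n U hU m (tr F U hle f') (by
      rw [app_tr, ← hx, hπtr hle, hm, map_sub, (hBk (n + k) U hU y).2 hy, sub_zero])]
    rw [← hf']
    exact tr_tr F (Nat.le_add_right n k) hle f'
  -- kernels
  have huk : ∀ n (U : X.Opens), IsAffineOpen U → ∀ m, (u n).app U m = 0 ↔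
      m ∈ sIdeal I U ^ (n + 1) • (⊤ : Submodule Γ(X, U) Γ(kernel b, U)) := fun n U hU m => by
    have hle' : ∀ l, sIdeal I U ^ (l + 1) • (⊤ : Submodule Γ(X, U) Γ(kernel b, U)) ≤
        LinearMap.ker (secₗ (u l) U) := fun l => by
      rw [← sIdeal_pow, sIdeal_smul_le_iff]
      intro r hr z _
      rw [LinearMap.mem_ker, map_smul, secₗ_apply, ← smulMod_app, hF.2.1 l r hr]
      rfl
    constructor
    · intro hm
      haveI := IsLocallyNoetherian.component_noetherian (X := X) ⟨U, hU⟩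
      haveI := CohBasics.Closure.finite_sections hB hU
      obtain ⟨c₂, hc₂⟩ := Ideal.exists_pow_inf_eq_pow_smul (sIdeal I U) (LinearMap.range (secₗ ι U))
      have hN : n ≤ n + c₂ := Nat.le_add_right _ _
      have hut : ∀ {l N : ℕ} (h : l ≤ N) (z : Γ(kernel b, U)), tr F U h ((u N).app U z) = (u l).app U z := by
        intro l N h z
        induction N, h using Nat.le_induction with
        | base => exact tr_self F _ _
        | succ N h ih =>
          rw [← tr_tr F h (Nat.le_succ N), ← ih]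
          exact congrArg _ (app_eq (hcompat N) U z)
      have h1 : (u (n + c₂)).app U m ∈
          (sIdeal I U ^ (n + 1) • (⊤ : Submodule Γ(X, U) Γ(kernel b, U))).map (secₗ (u (n + c₂)) U) := by
        have hr : LinearMap.range (secₗ (u (n + c₂)) U) = ⊤ := LinearMap.range_eq_top.2 (hus _ U hU)
        rw [Submodule.map_smul'', Submodule.map_top, hr]
        exact ((Formal.Sys.map_spec hF hN hU).2 _).1 ((hut hN m).trans hm)
      obtain ⟨y, hy, hye⟩ := h1
      suffices h : m - y ∈ sIdeal I U ^ (n + 1) • (⊤ : Submodule Γ(X, U) Γ(kernel b, U)) by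
        simpa using add_mem h hy
      obtain ⟨f, hf⟩ := hex' (n + c₂ + k) U hU (m - y)
      have h2 : tr F U (Nat.le_add_right (n + c₂) k) f = 0 := by
        refine (hchar (n + c₂) U hU (m - y) f hf).symm.trans ?_
        rw [map_sub, sub_eq_zero]
        exact hye.symm
      have h3 : (πB (n + c₂)).app U (ι.app U (m - y)) = 0 := by
        rw [← hπtr (Nat.le_add_right (n + c₂) k), ← hf, ← app_tr, h2, map_zero]
      have h4 : ι.app U (m - y) ∈ sIdeal I U ^ (n + c₂ + 1) • (⊤ : Submodule Γ(X, U) Γ(B, U)) ⊓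
          LinearMap.range (secₗ ι U) := ⟨(hBk _ U hU _).1 h3, m - y, rfl⟩
      rw [hc₂ _ (by omega), show n + c₂ + 1 - c₂ = n + 1 by omega] at h4
      have h5 := Submodule.smul_mono le_rfl inf_le_right h4
      rw [← Submodule.map_top, ← Submodule.map_smul''] at h5
      obtain ⟨z, hz, hze⟩ := h5
      rwa [← QCoh.Closure.sections_injective_of_mono ι U hze]
    · intro hm
      have h5 := hle' n hm
      rw [LinearMap.mem_ker, secₗ_apply] at h5
      exact h5
  refine ⟨kernel b, hMc, ?_⟩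
  exact Exists.elim (Formal.Sys.exists_completion_iso (M := kernel b) hF u hcompat hus huk) fun β _ => ⟨β⟩

end Algebraize

end Groth.Agent.H78.Proper.Exact
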