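import Groth.Agent.H78.Formal.Extend
import Groth.Agent.H78.Formal.Compl
import Groth.Agent.Lib.ProperFin.PushVanish
import Groth.Agent.Lib.Modules.Support
import Groth.Agent.Lib.Modules.SupportOps

/-!
# Formal modules supported in a closed subset of a compactification
-/

set_option linter.style.haveILetI false
set_option linter.unusedSectionVars false

noncomputable section

universe u

open CategoryTheory Limits AlgebraicGeometry Opposite TopologicalSpace

namespace Groth.Agent.H78.Proper.OpenPush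

open Groth.Agent.Lib Groth.Agent.Lib.CohBasics.Affine Groth.Agent.H78.Formal.Sections
  Groth.Agent.H78.Formal.Elem

variable {A : Type u} [CommRing A] {I : Ideal A}

section Dead

variable {X : Scheme.{u}} [X.Over (Spec (CommRingCat.of A))]

/-- Sections vanish away from the support of the first term of a formal module. -/
lemma eq_zero_of_disjoint {G : ℕᵒᵖ ⥤ X.Modules} (hG : _root_.Formal.IsCohFormal I G) {U : X.Opens}
    (hd : Disjoint (U : Set X) (CohB1.support (G.obj (op 0)))) (n : ℕ) (s : Γ(G.obj (op n), U)) : s = 0 := by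
  have haff : ∀ {W : X.Opens}, IsAffineOpen W → Disjoint (W : Set X) (CohB1.support (G.obj (op 0))) →
      ∀ s : Γ(G.obj (op n), W), s = 0 := by
    intro W hW hdW s
    have h0 : ∀ z : Γ(G.obj (op 0), W), z = 0 := fun z =>
      Modules.Support.eq_zero_of_germ_eq_zero z fun x hx hs => absurd hs (Set.disjoint_left.1 hdW hx)
    have htop : (⊤ : Submodule Γ(X, W) Γ(G.obj (op n), W)) ≤ sIdeal I W • ⊤ := fun x _ => by
      have h1 := ((Formal.Sys.map_spec hG (Nat.zero_le n) hW).2 x).1 (h0 _)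
      rwa [zero_add, pow_one] at h1
    have hk : ∀ k : ℕ, (⊤ : Submodule Γ(X, W) Γ(G.obj (op n), W)) ≤ sIdeal I W ^ k • ⊤ := by
      intro k
      induction k with
      | zero => rw [pow_zero, Ideal.one_eq_top, Submodule.top_smul]
      | succ k ih =>
        refine ih.trans ((Submodule.smul_mono le_rfl htop).trans ?_)
        rw [← mul_smul, pow_succ]
    have h2 := hk (n + 1) (Submodule.mem_top (x := s))
    rwa [Formal.Sys.killed hG n hW, Submodule.mem_bot] at h2
  refine TopCat.Presheaf.IsSheaf.section_ext (G.obj (op n)).isSheaf fun x hx => ?_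
  obtain ⟨W, hW, hxW, hWU⟩ := exists_isAffineOpen_mem_and_subset (X := X) (U := U) hx
  have hle : W ≤ U := hWU
  refine ⟨W, hle, hxW, ?_⟩
  exact (haff hW (hd.mono_left hWU) _).trans (haff hW (hd.mono_left hWU) _).symm

/-- The cover criterion for being a quotient by an ideal. -/
lemma exists_isIso_desc_cover {M N : X.Modules} [M.IsQuasicoherent] [N.IsQuasicoherent] (J : Ideal A)
    (t : M ⟶ N)
    (h : ∀ x : X, ∃ U : X.Opens, IsAffineOpen U ∧ x ∈ U ∧ Function.Surjective (t.app U) ∧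
      ∀ s, t.app U s = 0 ↔ s ∈ sIdeal J U • (⊤ : Submodule Γ(X, U) Γ(M, U))) :
    ∃ h : _root_.Formal.smulFamily J M ≫ t = 0, IsIso (cokernel.desc _ t h) := by
  have h0 : _root_.Formal.smulFamily J M ≫ t = 0 := by
    apply Sigma.hom_ext
    intro a
    rw [_root_.Formal.smulFamily, Sigma.ι_desc_assoc, comp_zero]
    refine eq_zero_of_cover _ fun x => ?_
    obtain ⟨U, hU, hx, -, hk⟩ := h x
    refine ⟨U, hU, hx, fun s => ?_⟩
    change t.app U ((_root_.Formal.smulMod A M (a : A)).app U s) = 0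
    rw [smulMod_app, hk]
    exact Submodule.smul_mem_smul (mem_sIdeal a.2) trivial
  refine ⟨h0, ?_⟩
  haveI := isQCoh_quot (M := M) J
  refine isIso_of_cover _ fun x => ?_
  obtain ⟨U, hU, hx, hs, hk⟩ := h x
  refine ⟨U, hU, hx, ?_⟩
  have e : ∀ s, (cokernel.desc _ t h0).app U
      ((cokernel.π (_root_.Formal.smulFamily J M)).app U s) = t.app U s := fun s =>
    ConcreteCategory.congr_hom (congrArg (fun χ => χ.app U) (cokernel.π_desc _ t h0)) s
  refine ⟨(injective_iff_map_eq_zero _).mpr fun z hz => ?_, fun w => ?_⟩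
  · obtain ⟨s, rfl⟩ := quot_app_surjective (M := M) J hU z
    rw [e] at hz
    exact (quot_app_eq_zero_iff J hU s).mpr ((hk s).mp hz)
  · obtain ⟨s, rfl⟩ := hs w
    exact ⟨_, e s⟩

end Dead

section Push

variable {X Xc : Scheme.{u}} [X.Over (Spec (CommRingCat.of A))] [Xc.Over (Spec (CommRingCat.of A))]
  (j : X ⟶ Xc) [IsOpenImmersion j] [QuasiCompact j]
  (hj : j ≫ (Xc ↘ Spec (CommRingCat.of A)) = X ↘ Spec (CommRingCat.of A))

include hj in
/-- Extended ideals of the base correspond along an open immersion. -/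
lemma mem_push_iff {N : X.Modules} (J : Ideal A) {U : Xc.Opens}
    (s : Γ(N, j ⁻¹ᵁ U)) :
    s ∈ sIdeal J (j ⁻¹ᵁ U) • (⊤ : Submodule Γ(X, j ⁻¹ᵁ U) Γ(N, j ⁻¹ᵁ U)) ↔
      (show Γ((Scheme.Modules.pushforward j).obj N, U) from s) ∈
        sIdeal J U • (⊤ : Submodule Γ(Xc, U) Γ((Scheme.Modules.pushforward j).obj N, U)) := by
  constructor
  · intro hs
    refine Submodule.smul_induction_on hs (fun r hr m _ => ?_) fun a b ha hb => add_mem ha hb
    induction hr using Submodule.span_induction generalizing m with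
    | mem x hx =>
      obtain ⟨a, ha, rfl⟩ := hx
      have e : (show Γ((Scheme.Modules.pushforward j).obj N, U) from sMap A (j ⁻¹ᵁ U) a • m) =
          sMap A U a • (show Γ((Scheme.Modules.pushforward j).obj N, U) from m) :=
        congrArg (fun r : Γ(X, j ⁻¹ᵁ U) => @HSMul.hSMul Γ(X, j ⁻¹ᵁ U) Γ(N, j ⁻¹ᵁ U) _ _ r m)
          (Formal.PullSys.sMap_app hj U a).symm
      exact e ▸ Submodule.smul_mem_smul (mem_sIdeal ha) trivial
    | zero => rw [zero_smul]; exact zero_mem _
    | add x y _ _ hx hy => rw [add_smul]; exact add_mem (hx m trivial) (hy m trivial)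
    | smul x y _ hy => rw [smul_eq_mul, mul_comm, mul_smul]; exact hy (x • m) trivial
  · intro hs
    let T : AddSubmonoid Γ((Scheme.Modules.pushforward j).obj N, U) :=
      { carrier := {z | (show Γ(N, j ⁻¹ᵁ U) from z) ∈ sIdeal J (j ⁻¹ᵁ U) • (⊤ : Submodule Γ(X, j ⁻¹ᵁ U) Γ(N, j ⁻¹ᵁ U))}
        add_mem' := fun ha hb =>
          Submodule.add_mem (sIdeal J (j ⁻¹ᵁ U) • (⊤ : Submodule Γ(X, j ⁻¹ᵁ U) Γ(N, j ⁻¹ᵁ U))) ha hb
        zero_mem' := Submodule.zero_mem (sIdeal J (j ⁻¹ᵁ U) • (⊤ : Submodule Γ(X, j ⁻¹ᵁ U) Γ(N, j ⁻¹ᵁ U))) }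
    suffices h : ∀ z ∈ sIdeal J U • (⊤ : Submodule Γ(Xc, U) Γ((Scheme.Modules.pushforward j).obj N, U)), z ∈ T
      from h _ hs
    intro z hz
    refine Submodule.smul_induction_on hz (fun r hr m _ => ?_) fun a b ha hb => add_mem ha hb
    change (show Γ(X, j ⁻¹ᵁ U) from (j.app U).hom r) • (show Γ(N, j ⁻¹ᵁ U) from m) ∈
      sIdeal J (j ⁻¹ᵁ U) • (⊤ : Submodule Γ(X, j ⁻¹ᵁ U) Γ(N, j ⁻¹ᵁ U))
    refine Submodule.smul_mem_smul ?_ trivial
    have hle : sIdeal J U ≤ (sIdeal J (j ⁻¹ᵁ U)).comap (j.app U).hom :=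
      Ideal.map_le_iff_le_comap.2 fun a ha => by
        change (j.app U).hom (sMap A U a) ∈ sIdeal J (j ⁻¹ᵁ U)
        rw [show (j.app U).hom (sMap A U a) = sMap A (j ⁻¹ᵁ U) a from Formal.PullSys.sMap_app hj U a]
        exact mem_sIdeal ha
    exact hle hr

/-- Finite sections on an open inside the image. -/
lemma finite_push {M : X.Modules} (hM : Coh.IsCoh M) {U : Xc.Opens} (hU : IsAffineOpen U)
    (hUj : U ≤ j.opensRange) : Module.Finite Γ(Xc, U) Γ((Scheme.Modules.pushforward j).obj M, U) := by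
  haveI := hM.1
  haveI := CohBasics.Closure.finite_sections hM (hU.preimage_of_isOpenImmersion j hUj)
  haveI : IsIso (j.app U) := j.isIso_app U hUj
  have hb : Function.Surjective (j.app U).hom := (ConcreteCategory.bijective_of_isIso (j.app U)).2
  obtain ⟨t, ht⟩ := Module.Finite.fg_top (R := Γ(X, j ⁻¹ᵁ U)) (M := Γ(M, j ⁻¹ᵁ U))
  refine ⟨⟨t, eq_top_iff.2 fun (m : Γ(M, j ⁻¹ᵁ U)) _ => ?_⟩⟩
  have hm : m ∈ Submodule.span Γ(X, j ⁻¹ᵁ U) (t : Set Γ(M, j ⁻¹ᵁ U)) := ht ▸ trivial
  induction hm using Submodule.span_induction with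
  | mem x hx => exact Submodule.subset_span hx
  | zero => exact Submodule.zero_mem _
  | add a b _ _ ha hb => exact Submodule.add_mem _ (ha trivial) (hb trivial)
  | smul r a _ ha =>
    obtain ⟨r', rfl⟩ := hb r
    exact Submodule.smul_mem _ r' (ha trivial)

variable [IsLocallyNoetherian Xc]

lemma cover_push {G : ℕᵒᵖ ⥤ X.Modules} (hG : _root_.Formal.IsCohFormal I G)
    (hT : IsClosed (j '' CohB1.support (G.obj (op 0)))) (x : Xc) :
    ∃ U : Xc.Opens, IsAffineOpen U ∧ x ∈ U ∧ (U ≤ j.opensRange ∨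
      ∀ (n : ℕ) (s : Γ(G.obj (op n), j ⁻¹ᵁ U)), s = 0) := by
  by_cases hx : x ∈ j.opensRange
  · obtain ⟨U, hU, hxU, hle⟩ := exists_isAffineOpen_mem_and_subset (X := Xc) (U := j.opensRange) hx
    exact ⟨U, hU, hxU, Or.inl hle⟩
  · obtain ⟨U, hU, hxU, hle⟩ := exists_isAffineOpen_mem_and_subset (X := Xc)
      (U := ⟨_, hT.isOpen_compl⟩) (x := x) (fun ⟨y, _, e⟩ => hx ⟨y, e⟩)
    refine ⟨U, hU, hxU, Or.inr fun n s => eq_zero_of_disjoint hG ?_ n s⟩
    exact Set.disjoint_left.2 fun y hy hyT => hle hy ⟨y, hyT, rfl⟩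

include hj in
/-- The extension by zero of a formal module is a formal module. -/
theorem isCohFormal_push {G : ℕᵒᵖ ⥤ X.Modules} (hG : _root_.Formal.IsCohFormal I G)
    (hT : IsClosed (j '' CohB1.support (G.obj (op 0)))) :
    _root_.Formal.IsCohFormal I (G ⋙ Scheme.Modules.pushforward j) := by
  haveI := fun n => Formal.Sys.qcoh hG n
  haveI := fun n => QCoh.Pushforward.isQCoh_pushforward j (M := G.obj (op n))
  choose U hU hxU hc using cover_push j hG hT
  have hcov : ⨆ x, U x = ⊤ := eq_top_iff.2 fun x _ => Opens.mem_iSup.2 ⟨x, hxU x⟩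
  refine ⟨fun n => ProperFin.PushVanish.isCoh_push j U (G.obj (op n)) hU hcov fun x => ?_, fun n a ha => ?_,
    fun n => ?_⟩
  · rcases hc x with h | h
    · exact finite_push j (hG.1 n) (hU x) h
    · exact ⟨⟨∅, eq_top_iff.2 fun (m : Γ(G.obj (op n), j ⁻¹ᵁ U x)) _ => by rw [h n m]; exact Submodule.zero_mem _⟩⟩
  · change _root_.Formal.smulMod A ((Scheme.Modules.pushforward j).obj (G.obj (op n))) a = 0
    rw [← Formal.PullSys.smulMod_pushforward hj, hG.2.1 n a ha, Functor.map_zero]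
  · refine exists_isIso_desc_cover (M := (Scheme.Modules.pushforward j).obj (G.obj (op (n + 1))))
      (N := (Scheme.Modules.pushforward j).obj (G.obj (op n))) (I ^ (n + 1))
      ((Scheme.Modules.pushforward j).map (G.map (homOfLE (Nat.le_succ n)).op)) fun x =>
        ⟨U x, hU x, hxU x, ?_⟩
    rcases hc x with h | h
    · have hU' := (hU x).preimage_of_isOpenImmersion j h
      refine ⟨(Formal.Sys.succ_spec hG n hU').1, fun s => ?_⟩
      refine ((Formal.Sys.succ_spec hG n hU').2 s).trans ?_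
      rw [← sIdeal_pow]
      exact mem_push_iff j hj (I ^ (n + 1)) s
    · refine ⟨fun (w : Γ(G.obj (op n), j ⁻¹ᵁ U x)) => ⟨0, (map_zero _).trans (h n w).symm⟩,
        fun (s : Γ(G.obj (op (n + 1)), j ⁻¹ᵁ U x)) => ?_⟩
      rw [h (n + 1) s]
      exact ⟨fun _ => Submodule.zero_mem _, fun _ => map_zero _⟩

end Push

end Groth.Agent.H78.Proper.OpenPush
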