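import Groth.Agent.H78.Proper.AffineCompl
import Groth.Agent.H78.Proper.Localised
import Groth.Agent.Lib.ModPair.Basic

/-!
# Pulling back along the completion of an affine open of the base
-/

set_option linter.style.haveILetI false
set_option linter.unusedSectionVars false

noncomputable section

universe u

open CategoryTheory Limits AlgebraicGeometry Opposite TopologicalSpace
open ZarCoh.FlatBC.PullbackSections

namespace Groth.Agent.H78.Proper.PullLocal

open Groth.Agent.Lib Groth.Agent.Lib.CohBasics.Affine Groth.Agent.H78.Formal.Sections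
  Groth.Agent.H78.Formal.Elem Groth.Agent.H78.Proper.AffineCompl

variable {A : Type u} [CommRing A] {X Y : Scheme.{u}} [X.Over (Spec (CommRingCat.of A))]
  [Y.Over (Spec (CommRingCat.of A))] (f : X ⟶ Y)
  (hf : f ≫ (Y ↘ Spec (CommRingCat.of A)) = X ↘ Spec (CommRingCat.of A))
  (I : Ideal A) {V : Y.Opens} (hV : IsAffineOpen V)

/-- The base change to the completion. -/
abbrev Zc : Scheme.{u} := pullback f (gS I hV)

/-- The projection to the source. -/
abbrev pZ : Zc f I hV ⟶ X := pullback.fst f (gS I hV)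

/-- The projection to the completion. -/
abbrev qZ : Zc f I hV ⟶ Spec (CommRingCat.of (Scompl I V)) := pullback.snd f (gS I hV)

lemma le_preimage : (⊤ : (Zc f I hV).Opens) ≤ pZ f I hV ⁻¹ᵁ (f ⁻¹ᵁ V) := by
  rw [← Scheme.Hom.comp_preimage, pullback.condition, Scheme.Hom.comp_preimage]
  exact (qZ f I hV).preimage_mono (preimage_fromSpec hV _)

include hf

variable [IsLocallyNoetherian Y]

/-- Sections of modules killed by a power of the ideal are determined by their inverse images. -/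
theorem injective_pbRes (M : X.Modules) [M.IsQuasicoherent] (n : ℕ)
    (hM : _root_.Formal.KilledBy (I ^ n) M) :
    Function.Injective (pbRes (pZ f I hV) M (le_preimage f I hV)) := by
  refine (injective_iff_map_eq_zero _).2 fun m hm => ?_
  refine TopCat.Presheaf.IsSheaf.section_ext M.isSheaf fun x hx => ?_
  obtain ⟨U, hU, hxU, hUle'⟩ := exists_isAffineOpen_mem_and_subset (X := X) (U := f ⁻¹ᵁ V) hx
  have hUle : U ≤ f ⁻¹ᵁ V := hUle'
  refine ⟨U, hUle, hxU, ?_⟩
  let 𝔞 := sIdeal (I ^ n) U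
  let mk : Γ(X, U) ⟶ CommRingCat.of (Γ(X, U) ⧸ 𝔞) := CommRingCat.ofHom (Ideal.Quotient.mk 𝔞)
  have hle : sIdeal I V ^ n ≤ 𝔞.comap (f.appLE V U hUle).hom := by
    rw [← sIdeal_pow]
    refine Ideal.map_le_iff_le_comap.2 fun a ha => ?_
    rw [Ideal.mem_comap, Ideal.mem_comap]
    have e : f.appLE V U hUle (sMap A V a) = sMap A U a := by
      change X.presheaf.map (homOfLE hUle).op (f.app V (sMap A V a)) = _
      rw [Formal.PullSys.sMap_app hf V a]
      exact res_sMap hUle a
    exact e ▸ mem_sIdeal ha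
  let χ : CommRingCat.of (Scompl I V) ⟶ CommRingCat.of (Γ(X, U) ⧸ 𝔞) :=
    CommRingCat.ofHom ((Ideal.quotientMap 𝔞 (f.appLE V U hUle).hom hle).comp
      (AdicCompletion.evalₐ (sIdeal I V) n).toRingHom)
  have hχ : CommRingCat.ofHom (algebraMap Γ(Y, V) (Scompl I V)) ≫ χ = f.appLE V U hUle ≫ mk := by
    ext r
    change Ideal.quotientMap 𝔞 (f.appLE V U hUle).hom hle
      (AdicCompletion.evalₐ (sIdeal I V) n (algebraMap Γ(Y, V) (Scompl I V) r)) = _
    rw [AlgHom.commutes]
    exact Ideal.quotientMap_mk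
  let k := Spec.map mk ≫ hU.fromSpec
  have hw : k ≫ f = Spec.map χ ≫ gS I hV := by
    rw [gS, ← Category.assoc (Spec.map χ), ← Spec.map_comp, hχ, Spec.map_comp, Category.assoc,
      Category.assoc, IsAffineOpen.SpecMap_appLE_fromSpec f hV hU hUle]
  let s : Spec (CommRingCat.of (Γ(X, U) ⧸ 𝔞)) ⟶ Zc f I hV := pullback.lift k (Spec.map χ) hw
  have hs : s ≫ pZ f I hV = k := pullback.lift_fst _ _ _
  have hU' : Function.Injective (pbRes k M (preimage_fromSpec hU mk)) := by
    refine UnitSections.injective_pbRes _ M hU (isAffineOpen_top _) _ 𝔞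
      (fun a ha m => smul_eq_zero_of_killedBy hM hU ha m)
      (Scheme.ΓSpecIso (CommRingCat.of (Γ(X, U) ⧸ 𝔞))).hom.hom fun r => ?_
    rw [appLE_fromSpec hU mk]
    exact Iso.inv_hom_id_apply (Scheme.ΓSpecIso (CommRingCat.of (Γ(X, U) ⧸ 𝔞))) _
  change M.presheaf.map (homOfLE hUle).op m = M.presheaf.map (homOfLE hUle).op 0
  rw [map_zero]
  refine hU' ?_
  rw [map_zero, UnitSections.pbRes_res]
  refine (DescAlg.PbSec.R_pbRes s hs M (le_preimage f I hV) le_top m).symm.trans ?_
  rw [hm, map_zero]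

/-- Over a basic open where `f` is an isomorphism the inverse image does not change sections. -/
theorem bijective_pbRes_basicOpen {O : Y.Opens} [IsIso (f ∣_ O)] (r : Γ(Y, V)) (hr : Y.basicOpen r ≤ O)
    (L : (Spec (CommRingCat.of (Scompl I V))).Modules) [L.IsQuasicoherent] :
    Function.Bijective (pbRes (qZ f I hV) L
      (le_refl (qZ f I hV ⁻¹ᵁ (Spec (CommRingCat.of (Scompl I V))).basicOpen
        ((gS I hV).appLE V ⊤ (preimage_fromSpec hV _) r)))) := by
  set W := (Spec (CommRingCat.of (Scompl I V))).basicOpen ((gS I hV).appLE V ⊤ (preimage_fromSpec hV _) r)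
  have hW : W ≤ gS I hV ⁻¹ᵁ O := by
    refine le_trans ?_ ((gS I hV).preimage_mono hr)
    rw [Scheme.preimage_basicOpen]
    exact (Scheme.basicOpen_res _ _ _).trans_le inf_le_right
  haveI : IsIso (qZ f I hV ∣_ W) :=
    ModPair.isIso_restrict_of_isPullback (IsPullback.of_hasPullback f (gS I hV)) O hW
  have hWa : IsAffineOpen W := (isAffineOpen_top _).basicOpen _
  have hW' : IsAffineOpen (qZ f I hV ⁻¹ᵁ W) := by
    haveI : IsAffine (W : Scheme.{u}) := hWa
    exact IsAffine.of_isIso (qZ f I hV ∣_ W)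
  haveI : IsIso ((qZ f I hV).app W) := by
    have h : IsIso ((qZ f I hV ∣_ W).appTop) := inferInstanceAs (IsIso ((qZ f I hV ∣_ W).app ⊤))
    rw [morphismRestrict_appTop] at h
    haveI := h
    have h2 : IsIso ((qZ f I hV).app (W.ι ''ᵁ ⊤)) :=
      @IsIso.of_isIso_comp_right _ _ _ _ _ ((qZ f I hV).app (W.ι ''ᵁ ⊤)) _ (Functor.map_isIso _ _) h
    rwa [Scheme.Opens.ι_image_top] at h2
  have happ : (qZ f I hV).appLE W (qZ f I hV ⁻¹ᵁ W) le_rfl = (qZ f I hV).app W := by
    rw [Scheme.Hom.app_eq_appLE]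
  refine ⟨UnitSections.injective_pbRes _ L hWa hW' _ ⊥ (fun a ha m => by rw [Ideal.mem_bot.1 ha, zero_smul])
      ((Ideal.Quotient.mk ⊥).comp (inv ((qZ f I hV).app W)).hom) (fun x => ?_),
    UnitSections.surjective_pbRes _ L hWa hW' _ ⊥ (fun a ha m => by rw [Ideal.mem_bot.1 ha, zero_smul])
      fun x => ⟨inv ((qZ f I hV).app W) x, ?_⟩⟩
  · rw [happ]
    exact congrArg (Ideal.Quotient.mk ⊥) (ConcreteCategory.congr_hom (IsIso.hom_inv_id ((qZ f I hV).app W)) x)
  · rw [happ, Ideal.map_bot, Ideal.mem_bot, sub_eq_zero]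
    exact (ConcreteCategory.congr_hom (IsIso.inv_hom_id ((qZ f I hV).app W)) x).symm

end Groth.Agent.H78.Proper.PullLocal
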