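import Groth.Agent.H78.Proper.PullLocal
import Groth.Agent.H78.Formal.Algebraize
import Groth.Agent.H78.Formal.Extend
import Groth.Agent.H78.Faithful.Completion
import Groth.Agent.Lib.Excellent.CompletionNoetherian
import Groth.Agent.Lib.Snapper.Finite
import Mathlib.RingTheory.AdicCompletion.LocalRing

/-!
# Algebraization of a formal module over the completion of an affine open
-/

set_option linter.style.haveILetI false
set_option linter.unusedSectionVars false

noncomputable section

universe u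

open CategoryTheory Limits AlgebraicGeometry Opposite TopologicalSpace
open ZarCoh.FlatBC.PullbackSections

namespace Groth.Agent.H78.Proper.PullTheta

open Groth.Agent.Lib Groth.Agent.Lib.CohBasics.Affine Groth.Agent.H78.Formal.Sections
  Groth.Agent.H78.Formal.Elem Groth.Agent.H78.Proper.AffineCompl Groth.Agent.H78.Proper.PullLocal

/-- Full faithfulness, as an isomorphism. -/
lemma exists_iso {S : Type u} [CommRing S] [IsNoetherianRing S] {Z : Scheme.{u}}
    [Z.Over (Spec (CommRingCat.of S))] [IsProper (Z ↘ Spec (CommRingCat.of S))] {J : Ideal S}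
    [IsAdicComplete J S] {M N : Z.Modules} (hM : Coh.IsCoh M) (hN : Coh.IsCoh N)
    (Ψ : _root_.Formal.completion J M ≅ _root_.Formal.completion J N) :
    ∃ θ : M ≅ N, ∀ n, cπ J M n ≫ Ψ.hom.app (op n) = θ.hom ≫ cπ J N n := by
  haveI := Existence.AmpleVanish.isNoetherian_of_proper S (X := Z)
  have hprop : ClSub.IsProperOver (Z ↘ Spec (CommRingCat.of S)) (Set.univ : Set Z) :=
    ⟨isClosed_univ, inferInstance⟩
  have key : ∀ {P Q : Z.Modules}, Coh.IsCoh P → Coh.IsCoh Q →
      ∀ ψ : _root_.Formal.completion J P ⟶ _root_.Formal.completion J Q,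
        ∃! φ : P ⟶ Q, ∀ n, cπ J P n ≫ ψ.app (op n) = φ ≫ cπ J Q n := fun hP hQ ψ =>
    Faithful.Completion.existsUnique_of_good J (FormalFun.ProperSupport.good Snapper.Finite.facts hprop) hP hQ
      ⟨RefHull.HomSh.isCoh_homSh hP hQ, Set.subset_univ _⟩ ψ
  obtain ⟨a, ha, -⟩ := key hM hN Ψ.hom
  obtain ⟨b, hb, -⟩ := key hN hM Ψ.inv
  refine ⟨⟨a, b, ?_, ?_⟩, ha⟩
  · refine (key hM hM (𝟙 _)).unique (fun n => ?_) (fun n => ?_)
    · rw [NatTrans.id_app, Category.comp_id, Category.assoc, ← hb n, ← Category.assoc, ← ha n, Category.assoc,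
        Iso.hom_inv_id_app, Category.comp_id]
    · rw [NatTrans.id_app, Category.comp_id, Category.id_comp]
  · refine (key hN hN (𝟙 _)).unique (fun n => ?_) (fun n => ?_)
    · rw [NatTrans.id_app, Category.comp_id, Category.assoc, ← ha n, ← Category.assoc, ← hb n, Category.assoc,
        Iso.inv_hom_id_app, Category.comp_id]
    · rw [NatTrans.id_app, Category.comp_id, Category.id_comp]

variable {A : Type u} [CommRing A] {X Y : Scheme.{u}} [X.Over (Spec (CommRingCat.of A))]
  [Y.Over (Spec (CommRingCat.of A))] {f : X ⟶ Y}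
  (hf : f ≫ (Y ↘ Spec (CommRingCat.of A)) = X ↘ Spec (CommRingCat.of A))
  {I : Ideal A} {V : Y.Opens} (hV : IsAffineOpen V) [IsProper f] [IsLocallyNoetherian Y]
  {G : ℕᵒᵖ ⥤ Y.Modules} {F : X.Modules}

include hf in
/-- Over the completion the pulled back system and the pulled back module come from one module. -/
theorem exists_algebraization (hG : _root_.Formal.IsCohFormal I G) (hF : Coh.IsCoh F)
    (b : G ⋙ Scheme.Modules.pullback f ≅ _root_.Formal.completion I F) :
    ∃ (L : (Spec (CommRingCat.of (Scompl I V))).Modules)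
      (θ : (Scheme.Modules.pullback (qZ f I hV)).obj L ≅ (Scheme.Modules.pullback (pZ f I hV)).obj F)
      (lam : ∀ n, L ⟶ (Scheme.Modules.pullback (gS I hV)).obj (G.obj (op n))),
      Coh.IsCoh L ∧ (∀ n, Function.Surjective ((lam n).app ⊤)) ∧
      (∀ (n m : ℕ) (h : n ≤ m),
        lam m ≫ (Scheme.Modules.pullback (gS I hV)).map (G.map (homOfLE h).op) = lam n) ∧
      ∀ (n : ℕ) (z : Γ(L, ⊤)) (g : Γ(G.obj (op n), V)),
        (lam n).app ⊤ z = pbRes (gS I hV) (G.obj (op n)) (preimage_fromSpec hV _) g →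
        ((Scheme.Modules.pullback (pZ f I hV)).map (cπ I F n)).app ⊤
            (θ.hom.app ⊤ (pbRes (qZ f I hV) L le_top z)) =
          pbRes (pZ f I hV) ((_root_.Formal.completion I F).obj (op n)) (le_preimage f I hV)
            ((b.hom.app (op n)).app (f ⁻¹ᵁ V) (pbRes f (G.obj (op n)) le_rfl g)) := by
  let S := Scompl I V
  haveI : IsNoetherianRing Γ(Y, V) := IsLocallyNoetherian.component_noetherian (X := Y) ⟨V, hV⟩
  let φ := φS I V
  haveI : IsAdicComplete (I.map φ) S := by
    rw [show I.map φ = (sIdeal I V).map (algebraMap Γ(Y, V) S) from (Ideal.map_map _ _).symm]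
    exact AdicCompletion.isAdicComplete_self _ (fg_sIdeal I hV)
  let q := qZ f I hV
  let p := pZ f I hV
  letI : (Spec (CommRingCat.of S)).Over (Spec (CommRingCat.of S)) := ⟨𝟙 _⟩
  letI : (Spec (CommRingCat.of S)).Over (Spec (CommRingCat.of A)) :=
    ⟨gS I hV ≫ (Y ↘ Spec (CommRingCat.of A))⟩
  letI : (Zc f I hV).Over (Spec (CommRingCat.of S)) := ⟨q⟩
  letI : (Zc f I hV).Over (Spec (CommRingCat.of A)) := ⟨p ≫ (X ↘ Spec (CommRingCat.of A))⟩
  haveI : IsProper ((Zc f I hV) ↘ Spec (CommRingCat.of S)) := inferInstanceAs (IsProper (pullback.snd f (gS I hV)))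
  have hφS : ((Spec (CommRingCat.of S)) ↘ Spec (CommRingCat.of S)) ≫ Spec.map (CommRingCat.ofHom φ) =
      Spec (CommRingCat.of S) ↘ Spec (CommRingCat.of A) := by
    change 𝟙 _ ≫ _ = gS I hV ≫ _
    rw [Category.id_comp, gS_over]
  have hφZ : ((Zc f I hV) ↘ Spec (CommRingCat.of S)) ≫ Spec.map (CommRingCat.ofHom φ) =
      (Zc f I hV) ↘ Spec (CommRingCat.of A) := by
    change q ≫ _ = p ≫ _
    rw [← hf, ← gS_over I hV, ← Category.assoc, ← pullback.condition, Category.assoc]
  -- the module on the completion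
  have hGs := Coeff.isCohFormal_map φ hφS I
    (Formal.Extend.isCohFormal_pullback (f := gS I hV) rfl hG)
  obtain ⟨L, hL, ⟨eL⟩⟩ := Formal.Algebraize.exists_completion_iso (I := I.map φ) _ hGs
  haveI := hL.1
  let lam : ∀ n, L ⟶ (Scheme.Modules.pullback (gS I hV)).obj (G.obj (op n)) := fun n =>
    cπ (I.map φ) L n ≫ eL.hom.app (op n)
  -- the two modules upstairs
  haveI := LocallyOfFiniteType.isLocallyNoetherian f
  have hq : q ≫ gS I hV = p ≫ f := pullback.condition.symm
  let γ : (G ⋙ Scheme.Modules.pullback (gS I hV)) ⋙ Scheme.Modules.pullback q ≅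
      _root_.Formal.completion I F ⋙ Scheme.Modules.pullback p :=
    Functor.associator _ _ _ ≪≫
      Functor.isoWhiskerLeft G (Scheme.Modules.pullbackComp q (gS I hV) ≪≫ Scheme.Modules.pullbackCongr hq ≪≫
        (Scheme.Modules.pullbackComp p f).symm) ≪≫
      (Functor.associator _ _ _).symm ≪≫ Functor.isoWhiskerRight b (Scheme.Modules.pullback p)
  obtain ⟨eqL, heqL⟩ := Coeff.exists_completion_comp (f := q) (Category.comp_id q)
    (Scheme.Modules.pullbackPushforwardAdjunction q) (I.map φ) L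
  have hpF : Coh.IsCoh ((Scheme.Modules.pullback p).obj F) := Formal.Extend.isCoh_pull p hF
  obtain ⟨e₁, he₁⟩ := Coeff.exists_completion_iso φ hφZ I hpF
  obtain ⟨e₂, he₂⟩ := Coeff.exists_completion_comp (f := p) (X := Zc f I hV) rfl
    (Scheme.Modules.pullbackPushforwardAdjunction p) I F
  let Ψ : _root_.Formal.completion (I.map φ) ((Scheme.Modules.pullback q).obj L) ≅
      _root_.Formal.completion (I.map φ) ((Scheme.Modules.pullback p).obj F) :=
    eqL ≪≫ Functor.isoWhiskerRight eL (Scheme.Modules.pullback q) ≪≫ γ ≪≫ (e₁ ≪≫ e₂).symm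
  obtain ⟨θ, hθ⟩ := exists_iso (Formal.Extend.isCoh_pull q hL) hpF Ψ
  refine ⟨L, θ, lam, hL, fun n => ?_, fun n m h => ?_, fun n z g hzg => ?_⟩
  · intro y
    obtain ⟨y', hy'⟩ := (app_bijective (eL.hom.app (op n)) ⊤).2 y
    obtain ⟨z, hz⟩ := cπ_surjective (M := L) (I.map φ) n (isAffineOpen_top _) y'
    exact ⟨z, (congrArg ((eL.hom.app (op n)).app ⊤) hz).trans hy'⟩
  · change (cπ (I.map φ) L m ≫ eL.hom.app (op m)) ≫ _ = cπ (I.map φ) L n ≫ eL.hom.app (op n)
    rw [Category.assoc]
    refine (congrArg (cπ (I.map φ) L m ≫ ·) (eL.hom.naturality (homOfLE h).op).symm).trans ?_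
    rw [← Category.assoc, cπ_comp]
  · have h1 : θ.hom ≫ (Scheme.Modules.pullback p).map (cπ I F n) =
        (Scheme.Modules.pullback q).map (lam n) ≫ γ.hom.app (op n) := by
      have e : cπ (I.map φ) ((Scheme.Modules.pullback p).obj F) n ≫ (e₁ ≪≫ e₂).hom.app (op n) =
          (Scheme.Modules.pullback p).map (cπ I F n) := by
        change _ ≫ e₁.hom.app (op n) ≫ e₂.hom.app (op n) = _
        rw [← Category.assoc, he₁ n]
        exact he₂ n
      rw [← e, ← Category.assoc, ← hθ n]
      simp only [Ψ, Iso.trans_hom, NatTrans.comp_app, Category.assoc, Functor.isoWhiskerRight_hom,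
        Functor.whiskerRight_app, Iso.symm_hom]
      erw [← Category.assoc, heqL n]
      simp only [Iso.trans_inv, NatTrans.comp_app, Category.assoc, Iso.inv_hom_id_app_assoc, Iso.inv_hom_id_app,
        Category.comp_id, lam, Functor.map_comp]
    refine (congrArg (fun χ => χ.app ⊤ (pbRes q L le_top z)) h1).trans ?_
    change (γ.hom.app (op n)).app ⊤
        (((Scheme.Modules.pullback q).map (lam n)).app ⊤ (pbRes q L le_top z)) = _
    rw [UnitSections.map_pbRes, hzg]
    have hγ : γ.hom.app (op n) = (DescAlg.PbSec.tr q hq (G.obj (op n))).hom ≫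
        (DescAlg.PbSec.tr p (rfl : p ≫ f = p ≫ f) (G.obj (op n))).inv ≫
        (Scheme.Modules.pullback p).map (b.hom.app (op n)) := by
      simp [γ, DescAlg.PbSec.tr, Scheme.Modules.pullbackCongr]
    rw [hγ]
    change ((Scheme.Modules.pullback p).map (b.hom.app (op n))).app ⊤
      ((DescAlg.PbSec.tr p (rfl : p ≫ f = p ≫ f) (G.obj (op n))).inv.app ⊤
        ((DescAlg.PbSec.tr q hq (G.obj (op n))).hom.app ⊤
          (pbRes q _ le_top (pbRes (gS I hV) (G.obj (op n)) (preimage_fromSpec hV _) g)))) = _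
    rw [← DescAlg.PbSec.R_eq q hq (G.obj (op n)) le_top,
      DescAlg.PbSec.R_pbRes q hq (G.obj (op n)) (preimage_fromSpec hV _) le_top g,
      ← DescAlg.PbSec.R_pbRes p (rfl : p ≫ f = p ≫ f) (G.obj (op n)) (le_refl (f ⁻¹ᵁ V)) (le_preimage f I hV) g,
      DescAlg.PbSec.R_eq p (rfl : p ≫ f = p ≫ f) (G.obj (op n)) (le_preimage f I hV),
      show ∀ w, (DescAlg.PbSec.tr p (rfl : p ≫ f = p ≫ f) (G.obj (op n))).inv.app ⊤
          ((DescAlg.PbSec.tr p (rfl : p ≫ f = p ≫ f) (G.obj (op n))).hom.app ⊤ w) = w from fun w =>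
        app_eq (DescAlg.PbSec.tr p (rfl : p ≫ f = p ≫ f) (G.obj (op n))).hom_inv_id ⊤ w]
    exact UnitSections.map_pbRes p (b.hom.app (op n)) (le_preimage f I hV) _

end Groth.Agent.H78.Proper.PullTheta
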