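import Groth.Agent.H78.Proper.PushMap
import Groth.Agent.H78.Proper.PullTheta

/-!
# The kernels and cokernels of the map to the completion of a direct image
-/

set_option linter.style.haveILetI false
set_option linter.unusedSectionVars false

noncomputable section

universe u

open CategoryTheory Limits AlgebraicGeometry Opposite TopologicalSpace
open ZarCoh.FlatBC.PullbackSections

namespace Groth.Agent.H78.Proper.PushKernel

open Groth.Agent.Lib Groth.Agent.Lib.CohBasics.Affine Groth.Agent.H78.Formal.Sections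
  Groth.Agent.H78.Formal.Elem Groth.Agent.H78.Proper.AffineCompl Groth.Agent.H78.Proper.PullLocal
  Groth.Agent.H78.Proper.PushMap

variable {A : Type u} [CommRing A] {X Y : Scheme.{u}} [X.Over (Spec (CommRingCat.of A))]
  [Y.Over (Spec (CommRingCat.of A))] {f : X ⟶ Y}
variable {I : Ideal A} {G : ℕᵒᵖ ⥤ Y.Modules} {F : X.Modules}

/-- The transpose of a map of systems. -/
def uMap (b : G ⋙ Scheme.Modules.pullback f ⟶ _root_.Formal.completion I F) :
    G ⟶ _root_.Formal.completion I F ⋙ P f where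
  app n := (Scheme.Modules.pullbackPushforwardAdjunction f).unit.app (G.obj n) ≫ (P f).map (b.app n)
  naturality n m i := by
    let adj := Scheme.Modules.pullbackPushforwardAdjunction f
    change G.map i ≫ adj.unit.app _ ≫ (P f).map (b.app m) =
      (adj.unit.app _ ≫ (P f).map (b.app n)) ≫ (P f).map ((_root_.Formal.completion I F).map i)
    rw [Category.assoc, ← Functor.map_comp, ← b.naturality, Functor.map_comp]
    exact adj.unit.naturality_assoc (G.map i) _

lemma uMap_app (b : G ⋙ Scheme.Modules.pullback f ⟶ _root_.Formal.completion I F) (n : ℕ) (V : Y.Opens)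
    (g : Γ(G.obj (op n), V)) :
    ((uMap b).app (op n)).app V g = (b.app (op n)).app (f ⁻¹ᵁ V) (pbRes f (G.obj (op n)) le_rfl g) := by
  refine congrArg ((b.app (op n)).app (f ⁻¹ᵁ V)) ?_
  exact (ConcreteCategory.congr_hom (((Scheme.Modules.pullback f).obj (G.obj (op n))).presheaf.map_id _) _).symm

/-- Membership in extended ideals is preserved by pulling back. -/
lemma mem_pbRes {W Z : Scheme.{u}} [W.Over (Spec (CommRingCat.of A))] [Z.Over (Spec (CommRingCat.of A))]
    (h : Z ⟶ W) (hh : h ≫ (W ↘ Spec (CommRingCat.of A)) = Z ↘ Spec (CommRingCat.of A)) (J : Ideal A)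
    (M : W.Modules) {U : W.Opens} {U' : Z.Opens} (e : U' ≤ h ⁻¹ᵁ U) (s : Γ(M, U))
    (hs : s ∈ sIdeal J U • (⊤ : Submodule Γ(W, U) Γ(M, U))) :
    pbRes h M e s ∈ sIdeal J U' • (⊤ : Submodule Γ(Z, U') Γ((Scheme.Modules.pullback h).obj M, U')) := by
  refine Submodule.smul_induction_on hs (fun r hr m _ => ?_) fun a b ha hb => by rw [map_add]; exact add_mem ha hb
  rw [pbRes_smul]
  refine Submodule.smul_mem_smul ?_ trivial
  have hle : sIdeal J U ≤ (sIdeal J U').comap (h.appLE U U' e).hom := Ideal.map_le_iff_le_comap.2 fun a ha => by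
    rw [Ideal.mem_comap, Ideal.mem_comap]
    have e' : h.appLE U U' e (sMap A U a) = sMap A U' a := by
      change Z.presheaf.map (homOfLE e).op (h.app U (sMap A U a)) = _
      rw [Formal.PullSys.sMap_app hh U a]
      exact res_sMap e a
    exact e' ▸ mem_sIdeal ha
  exact hle hr

variable (hf : f ≫ (Y ↘ Spec (CommRingCat.of A)) = X ↘ Spec (CommRingCat.of A))
  [IsNoetherian Y] [IsProper f] {V : Y.Opens} (hV : IsAffineOpen V)
include hf

lemma exists_bound_Z (hF : Coh.IsCoh F) :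
    letI : (Zc f I hV).Over (Spec (CommRingCat.of A)) := ⟨pZ f I hV ≫ (X ↘ Spec (CommRingCat.of A))⟩
    ∃ c : ℕ, ∀ (n : ℕ) (d : Γ((Scheme.Modules.pullback (pZ f I hV)).obj F, ⊤)),
      ((Scheme.Modules.pullback (pZ f I hV)).map (cπ I F (n + c))).app ⊤ d = 0 →
        d ∈ sIdeal (I ^ (n + 1)) (⊤ : (Zc f I hV).Opens) •
          (⊤ : Submodule Γ(Zc f I hV, ⊤) Γ((Scheme.Modules.pullback (pZ f I hV)).obj F, ⊤)) := by
  let p := pZ f I hV
  let q := qZ f I hV
  let φ := φS I V
  haveI : IsNoetherianRing Γ(Y, V) := IsLocallyNoetherian.component_noetherian (X := Y) ⟨V, hV⟩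
  letI : (Zc f I hV).Over (Spec (CommRingCat.of (Scompl I V))) := ⟨q⟩
  letI : (Zc f I hV).Over (Spec (CommRingCat.of A)) := ⟨p ≫ (X ↘ Spec (CommRingCat.of A))⟩
  haveI : IsProper ((Zc f I hV) ↘ Spec (CommRingCat.of (Scompl I V))) :=
    inferInstanceAs (IsProper (pullback.snd f (gS I hV)))
  have hφZ : ((Zc f I hV) ↘ Spec (CommRingCat.of (Scompl I V))) ≫ Spec.map (CommRingCat.ofHom φ) =
      (Zc f I hV) ↘ Spec (CommRingCat.of A) := by
    change q ≫ _ = p ≫ _
    rw [← hf, ← gS_over I hV, ← Category.assoc, ← pullback.condition, Category.assoc]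
  have hpF : Coh.IsCoh ((Scheme.Modules.pullback p).obj F) := Formal.Extend.isCoh_pull p hF
  obtain ⟨c, hc⟩ := PushBound.exists_shift (I.map φ) hpF
  obtain ⟨e₁, he₁⟩ := Coeff.exists_completion_iso φ hφZ I hpF
  obtain ⟨e₂, he₂⟩ := Coeff.exists_completion_comp (f := p) (X := Zc f I hV) rfl
    (Scheme.Modules.pullbackPushforwardAdjunction p) I F
  refine ⟨c, fun n d hd => ?_⟩
  have e : cπ (I.map φ) ((Scheme.Modules.pullback p).obj F) (n + c) ≫ (e₁ ≪≫ e₂).hom.app (op (n + c)) =
      (Scheme.Modules.pullback p).map (cπ I F (n + c)) := by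
    change _ ≫ e₁.hom.app _ ≫ e₂.hom.app _ = _
    rw [← Category.assoc, he₁ (n + c)]
    exact he₂ (n + c)
  have h1 := (hc n).1 d ((app_bijective ((e₁ ≪≫ e₂).hom.app (op (n + c))) ⊤).1
    (((app_eq e ⊤ d).trans hd).trans (map_zero _).symm))
  rwa [← Ideal.map_pow, Coeff.sIdeal_map φ hφZ] at h1

/-- Over an affine open, kernels and cokernels are killed by a fixed power of a function invertible
only where `f` is an isomorphism. -/
theorem exists_pow_local (hG : _root_.Formal.IsCohFormal I G) (hF : Coh.IsCoh F)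
    (b : G ⋙ Scheme.Modules.pullback f ≅ _root_.Formal.completion I F)
    (c : ℕ) (α : G ⟶ _root_.Formal.completion I ((P f).obj F))
    (hα : ∀ (n : ℕ) (V : Y.Opens) (g : Γ(G.obj (op (n + c + c)), V)) (s : Γ((P f).obj F, V)),
        (Pπ f I F (n + c)).app V s =
          tr (_root_.Formal.completion I F ⋙ P f) V (Nat.le_add_right (n + c) c)
            (((uMap b.hom).app (op (n + c + c))).app V g) →
        (α.app (op n)).app V (tr G V ((Nat.le_add_right n c).trans (Nat.le_add_right (n + c) c)) g) =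
          (cπ I ((P f).obj F) n).app V s)
    (hV : IsAffineOpen V) {O : Y.Opens} [IsIso (f ∣_ O)] (r : Γ(Y, V)) (hr : Y.basicOpen r ≤ O) :
    ∃ t : ℕ, ∀ n : ℕ, (∀ g, (α.app (op n)).app V g = 0 → r ^ t • g = 0) ∧
      ∀ h, ∃ g, (α.app (op n)).app V g = r ^ t • h := by
  haveI := LocallyOfFiniteType.isLocallyNoetherian f
  haveI := hF.1
  haveI : ((P f).obj F).IsQuasicoherent := QCoh.Pushforward.isQCoh_pushforward f (M := F)
  haveI := fun k => Formal.Sys.qcoh hG k
  haveI : IsNoetherianRing Γ(Y, V) := IsLocallyNoetherian.component_noetherian (X := Y) ⟨V, hV⟩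
  let S := Scompl I V
  let T := Spec (CommRingCat.of S)
  let Z := Zc f I hV
  let p := pZ f I hV
  let q := qZ f I hV
  let g₀ := gS I hV
  letI : T.Over (Spec (CommRingCat.of A)) := ⟨g₀ ≫ (Y ↘ Spec (CommRingCat.of A))⟩
  letI : Z.Over (Spec (CommRingCat.of A)) := ⟨p ≫ (X ↘ Spec (CommRingCat.of A))⟩
  have hq : q ≫ (T ↘ Spec (CommRingCat.of A)) = Z ↘ Spec (CommRingCat.of A) := by
    change q ≫ g₀ ≫ _ = p ≫ _
    rw [← Category.assoc, show q ≫ g₀ = p ≫ f from pullback.condition.symm, Category.assoc, hf]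
  obtain ⟨L, θ, lam, hL, hlam, hlamtr, hkey⟩ := PullTheta.exists_algebraization hf hV hG hF b
  haveI := hL.1
  -- the comparison of `L` with the sections upstairs
  let rS : Γ(T, ⊤) := g₀.appLE V ⊤ (preimage_fromSpec hV _) r
  let rZ : Γ(Z, ⊤) := q.appLE ⊤ ⊤ le_top rS
  haveI : IsLocallyNoetherian T := inferInstanceAs (IsLocallyNoetherian (Spec (CommRingCat.of S)))
  haveI : IsNoetherianRing Γ(T, ⊤) :=
    IsLocallyNoetherian.component_noetherian (X := T) ⟨⊤, isAffineOpen_top T⟩
  haveI : IsProper q := inferInstanceAs (IsProper (pullback.snd f (gS I hV)))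
  haveI : IsLocallyNoetherian Z := LocallyOfFiniteType.isLocallyNoetherian q
  have hqL : Coh.IsCoh ((Scheme.Modules.pullback q).obj L) := Formal.Extend.isCoh_pull q hL
  obtain ⟨t, htker, htcok⟩ := Localised.exists_pow (isAffineOpen_top T) hL (Cyc.PP.Push.isCoh_push q hqL)
    ((Scheme.Modules.pullbackPushforwardAdjunction q).unit.app L) rS (by
      have h := PullLocal.bijective_pbRes_basicOpen f hf I hV (O := O) r hr L
      have e : ∀ x : Γ(L, T.basicOpen rS), pbRes q L (le_refl (q ⁻¹ᵁ T.basicOpen rS)) x =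
          ((Scheme.Modules.pullbackPushforwardAdjunction q).unit.app L).app (T.basicOpen rS) x := fun x =>
        ConcreteCategory.congr_hom (((Scheme.Modules.pullback q).obj L).presheaf.map_id _) _
      exact ⟨fun a b hab => h.1 ((e a).trans (hab.trans (e b).symm)),
        fun y => (h.2 y).imp fun x hx => (e x).symm.trans hx⟩)
  let η : Γ(L, ⊤) →+ Γ((Scheme.Modules.pullback q).obj L, ⊤) := pbRes q L le_top
  have hη : ∀ x, ((Scheme.Modules.pullbackPushforwardAdjunction q).unit.app L).app ⊤ x = η x := fun x =>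
    (ConcreteCategory.congr_hom (((Scheme.Modules.pullback q).obj L).presheaf.map_id _) _).symm
  have hqq : q.appLE ⊤ ⊤ le_top = q.app ⊤ := by
    rw [Scheme.Hom.app_eq_appLE]; rfl
  let Θ : Γ(L, ⊤) →+ Γ((Scheme.Modules.pullback p).obj F, ⊤) := (θ.hom.app ⊤).hom.comp η
  have hΘsmul : ∀ (a : Γ(T, ⊤)) (x : Γ(L, ⊤)), Θ (a • x) = q.appLE ⊤ ⊤ le_top a • Θ x := fun a x =>
    (congrArg (θ.hom.app ⊤) (pbRes_smul q L le_top a x)).trans (θ.hom.app_smul _ _)
  have hΘker : ∀ x, Θ x = 0 → rS ^ t • x = 0 := fun x hx => by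
    refine htker x ((hη x).trans ((app_bijective θ.hom ⊤).1 ?_))
    exact hx.trans (map_zero _).symm
  have hΘcok : ∀ y, ∃ x, Θ x = rZ ^ t • y := fun y => by
    obtain ⟨y', rfl⟩ := (app_bijective θ.hom ⊤).2 y
    obtain ⟨x, hx⟩ := htcok y'
    refine ⟨x, ?_⟩
    rw [hη] at hx
    change θ.hom.app ⊤ (η x) = _
    rw [hx, ← θ.hom.app_smul]
    refine congrArg (θ.hom.app ⊤) ?_
    rw [show rZ ^ t = q.app ⊤ (rS ^ t) from (congrArg (· ^ t) (ConcreteCategory.congr_hom hqq rS)).trans (map_pow _ _ _).symm]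
    rfl
  have hrZ : p.appLE (f ⁻¹ᵁ V) ⊤ (le_preimage f I hV) (f.app V r) = rZ := by
    have e1 : f.app V = f.appLE V (f ⁻¹ᵁ V) le_rfl := by rw [Scheme.Hom.app_eq_appLE]
    rw [e1]
    change (f.appLE V (f ⁻¹ᵁ V) le_rfl ≫ p.appLE (f ⁻¹ᵁ V) ⊤ (le_preimage f I hV)) r =
      (g₀.appLE V ⊤ (preimage_fromSpec hV _) ≫ q.appLE ⊤ ⊤ le_top) r
    refine ConcreteCategory.congr_hom ?_ r
    rw [Scheme.Hom.appLE_comp_appLE, Scheme.Hom.appLE_comp_appLE]
    have w : p ≫ f = q ≫ g₀ := pullback.condition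
    simp only [w]
  let μ : Γ((P f).obj F, V) →+ Γ((Scheme.Modules.pullback p).obj F, ⊤) := pbRes p F (le_preimage f I hV)
  have hμsmul : ∀ (k : ℕ) (x : Γ((P f).obj F, V)), μ (r ^ k • x) = rZ ^ k • μ x := fun k x => by
    refine (pbRes_smul p F (le_preimage f I hV) (f.app V (r ^ k)) x).trans ?_
    rw [map_pow, map_pow, hrZ]
    rfl
  -- comparison at a level
  have hlvl : ∀ (k : ℕ) (z : Γ(L, ⊤)) (g : Γ(G.obj (op k), V)),
      (lam k).app ⊤ z = pbRes g₀ (G.obj (op k)) (preimage_fromSpec hV _) g →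
      ((Scheme.Modules.pullback p).map (cπ I F k)).app ⊤ (Θ z) =
        pbRes p ((_root_.Formal.completion I F).obj (op k)) (le_preimage f I hV)
          (((uMap b.hom).app (op k)).app V g) := fun k z g h => by
    rw [uMap_app]
    exact hkey k z g h
  have hκtr : ∀ {n m : ℕ} (h : n ≤ m) (z : Γ(L, ⊤)) (g : Γ(G.obj (op m), V)),
      (lam m).app ⊤ z = pbRes g₀ (G.obj (op m)) (preimage_fromSpec hV _) g →
      (lam n).app ⊤ z = pbRes g₀ (G.obj (op n)) (preimage_fromSpec hV _) (tr G V h g) := fun {n m} h z g hz => by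
    rw [← app_eq (hlamtr n m h) ⊤ z]
    refine (congrArg (((Scheme.Modules.pullback g₀).map (G.map (homOfLE h).op)).app ⊤) hz).trans ?_
    exact UnitSections.map_pbRes g₀ (G.map (homOfLE h).op) (preimage_fromSpec hV _) g
  have hμπ : ∀ (k : ℕ) (s : Γ((P f).obj F, V)),
      ((Scheme.Modules.pullback p).map (cπ I F k)).app ⊤ (μ s) =
        pbRes p ((_root_.Formal.completion I F).obj (op k)) (le_preimage f I hV) ((Pπ f I F k).app V s) :=
    fun k s => UnitSections.map_pbRes p (cπ I F k) (le_preimage f I hV) s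
  have hκ : ∀ k, Function.Bijective (pbRes g₀ (G.obj (op k)) (preimage_fromSpec hV _)) := fun k =>
    AffineCompl.bijective_pbRes I hV (G.obj (op k)) (k + 1) fun a ha m => by
      rw [← sIdeal_pow] at ha
      exact smul_eq_zero_of_killedBy (hG.2.1 k) hV ha m
  obtain ⟨cV, hcV⟩ := PushBound.exists_shift_affine hf I hF hV
  obtain ⟨cZ, hcZ⟩ := exists_bound_Z hf hV hF (I := I) (F := F)
  refine ⟨t + t, fun n => ⟨fun g hg => ?_, fun h => ?_⟩⟩
  · -- kernel
    let k := n + cZ + c
    have hnm : n ≤ k + c + cV := by omega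
    obtain ⟨g₂, hg₂⟩ := (Formal.Sys.map_spec hG hnm hV).1 g
    let g₁ := tr G V (show k + c ≤ k + c + cV by omega) g₂
    obtain ⟨s, hs⟩ := (hcV k).2 (tr (_root_.Formal.completion I F ⋙ P f) V (show k + cV ≤ k + c + cV by omega)
      (((uMap b.hom).app (op (k + c + cV))).app V g₂))
    have hs' : (Pπ f I F k).app V s = tr (_root_.Formal.completion I F ⋙ P f) V (Nat.le_add_right k c)
        (((uMap b.hom).app (op (k + c))).app V g₁) := by
      rw [app_tr (uMap b.hom), tr_tr]
      exact hs.trans (tr_tr (_root_.Formal.completion I F ⋙ P f) _ _ _)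
    have hk : k = (n + cZ) + c := rfl
    have hα₁ := hα (n + cZ) V g₁ s hs'
    have hg' : tr G V (show n ≤ n + cZ + c + c by omega) g₁ = g := by
      rw [tr_tr]; exact hg₂
    have h0 : (cπ I ((P f).obj F) n).app V s = 0 := by
      rw [← completion_π_tr I ((P f).obj F) (Nat.le_add_right n cZ) s, ← hα₁, ← app_tr α, tr_tr, hg', hg]
    have hsI : μ s ∈ sIdeal (I ^ (n + 1)) (⊤ : Z.Opens) •
        (⊤ : Submodule Γ(Z, ⊤) Γ((Scheme.Modules.pullback p).obj F, ⊤)) := by
      have h1 := (cπ_eq_zero_iff I n hV s).1 h0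
      rw [← sIdeal_pow] at h1
      refine mem_pbRes p rfl (I ^ (n + 1)) F (U := f ⁻¹ᵁ V) (le_preimage f I hV) s ?_
      refine Submodule.smul_induction_on h1 (fun a ha m _ => ?_) fun a b ha hb => add_mem ha hb
      refine Submodule.smul_mem_smul (show f.app V a ∈ sIdeal (I ^ (n + 1)) (f ⁻¹ᵁ V) from ?_) trivial
      have hle : sIdeal (I ^ (n + 1)) V ≤ (sIdeal (I ^ (n + 1)) (f ⁻¹ᵁ V)).comap (f.app V).hom :=
        Ideal.map_le_iff_le_comap.2 fun a ha => by
          rw [Ideal.mem_comap, Ideal.mem_comap]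
          exact (Formal.PullSys.sMap_app hf V a).symm ▸ mem_sIdeal ha
      exact hle ha
    obtain ⟨z, hz⟩ := hlam (k + c) (pbRes g₀ (G.obj (op (k + c))) (preimage_fromSpec hV _) g₁)
    have hzk := hlvl k z _ (hκtr (Nat.le_add_right k c) z g₁ hz)
    rw [app_tr (uMap b.hom), ← hs', ← hμπ] at hzk
    have hd : Θ z - μ s ∈ sIdeal (I ^ (n + 1)) (⊤ : Z.Opens) •
        (⊤ : Submodule Γ(Z, ⊤) Γ((Scheme.Modules.pullback p).obj F, ⊤)) := by
      refine hcZ n _ ?_
      have e := congrArg (((Scheme.Modules.pullback p).map ((_root_.Formal.completion I F).map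
        (homOfLE (show n + cZ ≤ k by omega)).op)).app ⊤) hzk
      rw [← ConcreteCategory.comp_apply, ← ConcreteCategory.comp_apply, ← Scheme.Modules.Hom.comp_app,
        ← Functor.map_comp, cπ_comp] at e
      rw [map_sub, sub_eq_zero]
      exact e
    have hΘz : Θ z ∈ sIdeal (I ^ (n + 1)) (⊤ : Z.Opens) •
        (⊤ : Submodule Γ(Z, ⊤) Γ((Scheme.Modules.pullback p).obj F, ⊤)) := by
      have := add_mem hd hsI
      rwa [sub_add_cancel] at this
    obtain ⟨w, hw, hwz⟩ : ∃ w ∈ sIdeal (I ^ (n + 1)) (⊤ : T.Opens) • (⊤ : Submodule Γ(T, ⊤) Γ(L, ⊤)),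
        Θ w = rZ ^ t • Θ z := by
      refine Submodule.smul_induction_on hΘz (fun a ha y _ => ?_) fun a b ha hb => ?_
      · induction ha using Submodule.span_induction generalizing y with
        | mem x hx =>
          obtain ⟨a, ha, rfl⟩ := hx
          obtain ⟨x, hx⟩ := hΘcok y
          refine ⟨sMap A (⊤ : T.Opens) a • x, Submodule.smul_mem_smul (mem_sIdeal ha) trivial, ?_⟩
          rw [hΘsmul, hx, smul_comm]
          refine congrArg (fun a : Γ(Z, ⊤) => rZ ^ t • a • y) ?_
          rw [hqq]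
          exact Formal.PullSys.sMap_app hq ⊤ a
        | zero => exact ⟨0, zero_mem _, by rw [map_zero, zero_smul, smul_zero]⟩
        | add x x' _ _ hx hx' =>
          obtain ⟨w, hw, e⟩ := hx y trivial
          obtain ⟨w', hw', e'⟩ := hx' y trivial
          exact ⟨w + w', add_mem hw hw', by rw [map_add, e, e', add_smul, smul_add]⟩
        | smul x x' _ hx' =>
          obtain ⟨w, hw, e⟩ := hx' (x • y) trivial
          exact ⟨w, hw, by rw [e, smul_eq_mul, mul_comm x x', mul_smul]⟩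
      · obtain ⟨w, hw, e⟩ := ha
        obtain ⟨w', hw', e'⟩ := hb
        exact ⟨w + w', add_mem hw hw', by rw [map_add, e, e', smul_add]⟩
    have h2 : rS ^ (t + t) • z = rS ^ t • w := by
      have e := hΘker (rS ^ t • z - w) (by rw [map_sub, hΘsmul, hwz, map_pow, sub_self])
      rwa [smul_sub, smul_smul, ← pow_add, sub_eq_zero] at e
    have hlamw : (lam n).app ⊤ w = 0 := by
      refine Submodule.smul_induction_on hw (fun a ha y _ => ?_) fun a b ha hb => by rw [map_add, ha, hb, add_zero]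
      rw [(lam n).app_smul]
      haveI := QCoh.Pullback.isQCoh_pullback g₀ (G.obj (op n))
      exact smul_eq_zero_of_killedBy (Formal.PullSys.killedBy_obj rfl
        (Scheme.Modules.pullbackPushforwardAdjunction g₀) (hG.2.1 n)) (isAffineOpen_top T) ha _
    refine (hκ n).1 ?_
    rw [map_zero, pbRes_smul, map_pow]
    change rS ^ (t + t) • pbRes g₀ (G.obj (op n)) (preimage_fromSpec hV _) g = 0
    rw [← hg', ← hκtr (show n ≤ n + cZ + c + c by omega) z g₁ hz, ← (lam n).app_smul, h2,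
      (lam n).app_smul, hlamw, smul_zero]
  · -- cokernel
    obtain ⟨s₀, rfl⟩ := cπ_surjective (M := (P f).obj F) I n hV h
    obtain ⟨w, hw⟩ := hΘcok (μ s₀)
    obtain ⟨g, hgw⟩ := (hκ (n + c + c)).2 ((lam (n + c + c)).app ⊤ w)
    have e := hlvl (n + c) w _ (hκtr (Nat.le_add_right (n + c) c) w g hgw.symm)
    rw [hw, ← hμsmul, hμπ] at e
    haveI : ((_root_.Formal.completion I F).obj (op (n + c))).IsQuasicoherent := isQCoh_modPow (M := F) I (n + c + 1)
    have e2 : (Pπ f I F (n + c)).app V (r ^ t • s₀) = _ :=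
      (PullLocal.injective_pbRes f hf I hV _ (n + c + 1) (Formal.Compl.killedBy_completion I (M := F) (n + c)) e)
    rw [app_tr (uMap b.hom)] at e2
    refine ⟨r ^ t • tr G V ((Nat.le_add_right n c).trans (Nat.le_add_right (n + c) c)) g, ?_⟩
    rw [Scheme.Modules.Hom.app_smul, hα n V g _ e2, Scheme.Modules.Hom.app_smul, smul_smul, ← pow_add]

end Groth.Agent.H78.Proper.PushKernel
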