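import Groth.Agent.H78.Proper.PushBound
import Groth.Agent.Lib.Cyc.PP.Push

/-!
# The map to the completion of a direct image
-/

set_option linter.style.haveILetI false
set_option linter.unusedSectionVars false

noncomputable section

universe u

open CategoryTheory Limits AlgebraicGeometry Opposite TopologicalSpace

namespace Groth.Agent.H78.Proper.PushMap

open Groth.Agent.Lib Groth.Agent.Lib.CohBasics.Affine Groth.Agent.H78.Formal.Sections
  Groth.Agent.H78.Formal.Elem

variable {A : Type u} [CommRing A] {X Y : Scheme.{u}} [X.Over (Spec (CommRingCat.of A))]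
  [Y.Over (Spec (CommRingCat.of A))] {f : X ⟶ Y}
  (hf : f ≫ (Y ↘ Spec (CommRingCat.of A)) = X ↘ Spec (CommRingCat.of A))
variable [IsNoetherian Y] [IsProper f] {I : Ideal A}

variable (f) in
/-- The direct image. -/
abbrev P : X.Modules ⥤ Y.Modules := Scheme.Modules.pushforward f

/-- The direct image of a projection. -/
abbrev Pπ (f : X ⟶ Y) (I : Ideal A) (F : X.Modules) (n : ℕ) :
    (P f).obj F ⟶ (_root_.Formal.completion I F ⋙ P f).obj (op n) :=
  (P f).map (cπ I F n)

lemma Pπ_tr (F : X.Modules) {n m : ℕ} (h : n ≤ m) (V : Y.Opens) (s : Γ((P f).obj F, V)) :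
    tr (_root_.Formal.completion I F ⋙ P f) V h ((Pπ f I F m).app V s) = (Pπ f I F n).app V s :=
  app_eq (show (P f).map (cπ I F m) ≫ (P f).map ((_root_.Formal.completion I F).map (homOfLE h).op) =
    (P f).map (cπ I F n) by rw [← Functor.map_comp, cπ_comp]) V s

include hf

lemma exists_cover {F : X.Modules} (hF : Coh.IsCoh F) :
    ∃ c : ℕ, ∀ y : Y, ∃ V : Y.Opens, IsAffineOpen V ∧ y ∈ V ∧ ∀ n : ℕ,
      (∀ m : Γ((P f).obj F, V), (Pπ f I F (n + c)).app V m = 0 →
        (cπ I ((P f).obj F) n).app V m = 0) ∧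
      (∀ u : Γ((_root_.Formal.completion I F ⋙ P f).obj (op (n + c)), V),
        ∃ m, (Pπ f I F n).app V m =
          tr (_root_.Formal.completion I F ⋙ P f) V (Nat.le_add_right n c) u) := by
  haveI := LocallyOfFiniteType.isLocallyNoetherian f
  haveI := hF.1
  haveI : ((P f).obj F).IsQuasicoherent := QCoh.Pushforward.isQCoh_pushforward f (M := F)
  refine exists_uniform (fun V c => ∀ n : ℕ,
      (∀ m : Γ((P f).obj F, V), (Pπ f I F (n + c)).app V m = 0 →
        (cπ I ((P f).obj F) n).app V m = 0) ∧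
      (∀ u : Γ((_root_.Formal.completion I F ⋙ P f).obj (op (n + c)), V),
        ∃ m, (Pπ f I F n).app V m =
          tr (_root_.Formal.completion I F ⋙ P f) V (Nat.le_add_right n c) u))
    (fun V c c' h hc n => ⟨fun m hm => (hc n).1 m ?_, fun u => ?_⟩) fun V hV => ?_
  · have e := congrArg (tr (_root_.Formal.completion I F ⋙ P f) V (Nat.add_le_add_left h n)) hm
    rw [map_zero] at e
    exact (Pπ_tr F (Nat.add_le_add_left h n) V m).symm.trans e
  · obtain ⟨m, hm⟩ := (hc n).2 (tr (_root_.Formal.completion I F ⋙ P f) V (Nat.add_le_add_left h n) u)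
    exact ⟨m, hm.trans (tr_tr (_root_.Formal.completion I F ⋙ P f) (Nat.le_add_right n c) (Nat.add_le_add_left h n) u)⟩
  · obtain ⟨c, hc⟩ := PushBound.exists_shift_affine hf I hF hV
    exact ⟨c, fun n => ⟨fun m hm => (cπ_eq_zero_iff I n hV m).2 ((hc n).1 m hm), (hc n).2⟩⟩

/-- A map of systems into the direct images of the reductions lifts to the completion of the direct image. -/
theorem exists_map {G : ℕᵒᵖ ⥤ Y.Modules} (hG : _root_.Formal.IsCohFormal I G) {F : X.Modules}
    (hF : Coh.IsCoh F) (u : G ⟶ _root_.Formal.completion I F ⋙ P f) :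
    ∃ (c : ℕ) (α : G ⟶ _root_.Formal.completion I ((P f).obj F)),
      ∀ (n : ℕ) (V : Y.Opens) (g : Γ(G.obj (op (n + c + c)), V)) (s : Γ((P f).obj F, V)),
        (Pπ f I F (n + c)).app V s =
          tr (_root_.Formal.completion I F ⋙ P f) V (Nat.le_add_right (n + c) c)
            ((u.app (op (n + c + c))).app V g) →
        (α.app (op n)).app V (tr G V ((Nat.le_add_right n c).trans (Nat.le_add_right (n + c) c)) g) =
          (cπ I ((P f).obj F) n).app V s := by
  haveI := LocallyOfFiniteType.isLocallyNoetherian f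
  haveI := hF.1
  haveI hPF : ((P f).obj F).IsQuasicoherent := QCoh.Pushforward.isQCoh_pushforward f (M := F)
  haveI := fun k => Formal.Sys.qcoh hG k
  haveI hPn : ∀ k, ((P f).obj ((_root_.Formal.completion I F).obj (op k))).IsQuasicoherent := fun k =>
    haveI : ((_root_.Formal.completion I F).obj (op k)).IsQuasicoherent := isQCoh_modPow (M := F) I (k + 1)
    QCoh.Pushforward.isQCoh_pushforward f (M := (_root_.Formal.completion I F).obj (op k))
  haveI hQn : ∀ k, ((_root_.Formal.completion I ((P f).obj F)).obj (op k)).IsQuasicoherent := fun k =>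
    isQCoh_modPow I (k + 1)
  obtain ⟨c, hc⟩ := exists_cover hf (I := I) hF
  let C := _root_.Formal.completion I F ⋙ P f
  have hle : ∀ n : ℕ, n ≤ n + c + c := fun n => (Nat.le_add_right n c).trans (Nat.le_add_right (n + c) c)
  let δ : ∀ n : ℕ, G.obj (op (n + c + c)) ⊞ (P f).obj F ⟶ C.obj (op (n + c)) := fun n =>
    (biprod.fst : G.obj (op (n + c + c)) ⊞ (P f).obj F ⟶ _) ≫ u.app (op (n + c + c)) ≫
        C.map (homOfLE (Nat.le_add_right (n + c) c)).op -
      (biprod.snd : G.obj (op (n + c + c)) ⊞ (P f).obj F ⟶ _) ≫ Pπ f I F (n + c)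
  let p : ∀ n : ℕ, kernel (δ n) ⟶ G.obj (op (n + c + c)) := fun n =>
    kernel.ι (δ n) ≫ (biprod.fst : G.obj (op (n + c + c)) ⊞ (P f).obj F ⟶ _)
  let q : ∀ n : ℕ, kernel (δ n) ⟶ (P f).obj F := fun n =>
    kernel.ι (δ n) ≫ (biprod.snd : G.obj (op (n + c + c)) ⊞ (P f).obj F ⟶ _)
  have hδ : ∀ n (V : Y.Opens) (w : Γ(G.obj (op (n + c + c)) ⊞ (P f).obj F, V)),
      (δ n).app V w = tr C V (Nat.le_add_right (n + c) c) ((u.app (op (n + c + c))).app V
          ((biprod.fst : G.obj (op (n + c + c)) ⊞ (P f).obj F ⟶ _).app V w)) -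
        (Pπ f I F (n + c)).app V
          ((biprod.snd : G.obj (op (n + c + c)) ⊞ (P f).obj F ⟶ _).app V w) := fun _ _ _ => rfl
  have hmem : ∀ n (V : Y.Opens) (g : Γ(G.obj (op (n + c + c)), V)) (s : Γ((P f).obj F, V)),
      (Pπ f I F (n + c)).app V s =
          tr C V (Nat.le_add_right (n + c) c) ((u.app (op (n + c + c))).app V g) →
        ∃ w, (p n).app V w = g ∧ (q n).app V w = s := fun n V g s h => by
    obtain ⟨w, hw₁, hw₂⟩ := exists_biprod g s
    obtain ⟨w', hw'⟩ := exists_kernel_section (δ n) w (by rw [hδ, hw₁, hw₂, h, sub_self])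
    exact ⟨w', (congrArg _ hw').trans hw₁, (congrArg _ hw').trans hw₂⟩
  have hp : ∀ n, Epi (p n) := fun n => by
    haveI : (G.obj (op (n + c + c)) ⊞ (P f).obj F).IsQuasicoherent := QCoh.Closure.isQCoh_biprod
    haveI : (C.obj (op (n + c))).IsQuasicoherent := hPn (n + c)
    haveI := QCoh.Closure.isQCoh_kernel (δ n)
    refine epi_of_cover _ fun y => ?_
    obtain ⟨V, hV, hy, h⟩ := hc y
    refine ⟨V, hV, hy, fun g => ?_⟩
    obtain ⟨s, hs⟩ := (h (n + c)).2 ((u.app (op (n + c + c))).app V g)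
    obtain ⟨w, hw, -⟩ := hmem n V g s hs
    exact ⟨w, hw⟩
  have hψ : ∀ n, ∃ ψ : G.obj (op n) ⟶ (_root_.Formal.completion I ((P f).obj F)).obj (op n),
      p n ≫ G.map (homOfLE (hle n)).op ≫ ψ = q n ≫ cπ I ((P f).obj F) n := fun n => by
    haveI := hp n
    haveI : (G.obj (op (n + c + c)) ⊞ (P f).obj F).IsQuasicoherent := QCoh.Closure.isQCoh_biprod
    haveI : (C.obj (op (n + c))).IsQuasicoherent := hPn (n + c)
    haveI := QCoh.Closure.isQCoh_kernel (δ n)
    obtain ⟨ψ₁, hψ₁⟩ := exists_desc_cover (p n) (q n ≫ cπ I ((P f).obj F) n) fun y => by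
      obtain ⟨V, hV, hy, h⟩ := hc y
      refine ⟨V, hV, hy, fun w hw => ?_⟩
      have h0 := kernel_app_eq_zero (δ n) w
      rw [hδ, show (biprod.fst : G.obj (op (n + c + c)) ⊞ (P f).obj F ⟶ _).app V
        ((kernel.ι (δ n)).app V w) = 0 from hw, map_zero, map_zero, zero_sub, neg_eq_zero] at h0
      exact (h n).1 _ h0
    obtain ⟨ψ, hψ⟩ := Formal.Sys.exists_desc_map hG (hle n) ψ₁
      (Formal.Compl.killedBy_completion I (M := (P f).obj F) n)
    exact ⟨ψ, (congrArg (p n ≫ ·) hψ).trans hψ₁⟩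
  choose ψ hψ using hψ
  have hspec : ∀ (n : ℕ) (V : Y.Opens) (g : Γ(G.obj (op (n + c + c)), V)) (s : Γ((P f).obj F, V)),
      (Pπ f I F (n + c)).app V s =
          tr C V (Nat.le_add_right (n + c) c) ((u.app (op (n + c + c))).app V g) →
        (ψ n).app V (tr G V (hle n) g) = (cπ I ((P f).obj F) n).app V s := fun n V g s h => by
    obtain ⟨w, rfl, rfl⟩ := hmem n V g s h
    exact app_eq (hψ n) V w
  have hnat : ∀ n, G.map (homOfLE (n.le_add_right 1)).op ≫ ψ n =
      ψ (n + 1) ≫ (_root_.Formal.completion I ((P f).obj F)).map (homOfLE (n.le_add_right 1)).op := fun n => by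
    haveI := Formal.Sys.epi_map hG (hle (n + 1))
    rw [← cancel_epi (G.map (homOfLE (hle (n + 1))).op), ← sub_eq_zero]
    refine eq_zero_of_cover _ fun y => ?_
    obtain ⟨V, hV, hy, h⟩ := hc y
    refine ⟨V, hV, hy, fun g => ?_⟩
    refine sub_eq_zero.2 ?_
    change (ψ n).app V (tr G V (n.le_add_right 1) (tr G V (hle (n + 1)) g)) =
      tr (_root_.Formal.completion I ((P f).obj F)) V (n.le_add_right 1)
        ((ψ (n + 1)).app V (tr G V (hle (n + 1)) g))
    obtain ⟨s, hs⟩ := (h (n + 1 + c)).2 ((u.app (op (n + 1 + c + c))).app V g)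
    rw [hspec (n + 1) V g s hs, completion_π_tr, tr_tr,
      ← tr_tr G (hle n) (show n + c + c ≤ n + 1 + c + c by omega) g]
    refine hspec n V _ s ?_
    rw [app_tr u, tr_tr]
    have e := congrArg (tr C V (show n + c ≤ n + 1 + c by omega)) hs
    rw [tr_tr] at e
    exact ((Pπ_tr F (show n + c ≤ n + 1 + c by omega) V s).symm).trans e
  let ψ' : ∀ n : ℕ, G.obj (op n) ⟶ (_root_.Formal.completion I ((P f).obj F)).obj (op n) := ψ
  exact ⟨c, NatTrans.ofOpSequence ψ' hnat, hspec⟩

end Groth.Agent.H78.Proper.PushMap
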