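import Groth.Agent.H78.Proper.PushKernel
import Groth.Prelude.Def_ClSub2

/-!
# Systems pushed and pulled along a proper morphism
-/

set_option linter.style.haveILetI false
set_option linter.unusedSectionVars false

noncomputable section

universe u

open CategoryTheory Limits AlgebraicGeometry Opposite TopologicalSpace

namespace Groth.Agent.H78.Proper.PushPull

open Groth.Agent.Lib Groth.Agent.Lib.CohBasics.Affine Groth.Agent.H78.Formal.Sections
  Groth.Agent.H78.Formal.Elem Groth.Agent.Lib.QCoh.Localizing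

/-- Being killed by an ideal sheaf may be tested on an affine cover. -/
theorem killedByIdeal_of_cover {X : Scheme.{u}} (J : X.IdealSheafData) (M : X.Modules) [M.IsQuasicoherent]
    (h : ∀ x : X, ∃ (V : X.Opens) (hV : IsAffineOpen V), x ∈ V ∧
      ∀ a ∈ J.ideal ⟨V, hV⟩, ∀ m : Γ(M, V), a • m = 0) : ClSub.KilledByIdeal J M := by
  intro U a ha m
  change a • (show Γ(M, U.1) from m) = 0
  refine TopCat.Presheaf.IsSheaf.section_ext M.isSheaf fun x hx => ?_
  obtain ⟨V, hV, hxV, hkill⟩ := h x
  obtain ⟨f, hfU, hxf⟩ := hV.exists_basicOpen_le (V := U.1) ⟨x, hx⟩ hxV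
  refine ⟨X.basicOpen f, hfU, hxf, ?_⟩
  change res M hfU (a • _) = res M hfU 0
  rw [res_smul, map_zero]
  have h1 : resR hfU a ∈ J.ideal ⟨X.basicOpen f, hV.basicOpen f⟩ := by
    rw [← J.map_ideal (U := ⟨X.basicOpen f, hV.basicOpen f⟩) (V := U) hfU]
    exact Ideal.mem_map_of_mem _ ha
  rw [← J.map_ideal (U := ⟨X.basicOpen f, hV.basicOpen f⟩) (V := ⟨V, hV⟩) (X.basicOpen_le f)] at h1
  set y := res M hfU (show Γ(M, U.1) from m)
  obtain ⟨n, t, ht⟩ := (localizes_of_isAffineOpen M hV f).ext' y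
  have hu : IsUnit (resR (X.basicOpen_le f) f ^ n) := by
    refine IsUnit.pow n ?_
    exact RingedSpace.isUnit_res_basicOpen _ f
  refine (hu.smul_eq_zero).1 ?_
  rw [smul_comm, ← ht]
  have hle : (J.ideal ⟨V, hV⟩).map (X.presheaf.map (homOfLE (X.basicOpen_le f)).op).hom ≤
      LinearMap.ker (LinearMap.toSpanSingleton Γ(X, X.basicOpen f) Γ(M, X.basicOpen f)
        (res M (X.basicOpen_le f) t)) :=
    Ideal.map_le_iff_le_comap.2 fun b hb => by
      change resR (X.basicOpen_le f) b • res M (X.basicOpen_le f) t = 0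
      rw [← res_smul, hkill b hb t, map_zero]
  exact hle h1

variable {A : Type u} [CommRing A] {X Y : Scheme.{u}} [X.Over (Spec (CommRingCat.of A))]
  [Y.Over (Spec (CommRingCat.of A))] {f : X ⟶ Y}
  (hf : f ≫ (Y ↘ Spec (CommRingCat.of A)) = X ↘ Spec (CommRingCat.of A))
  [IsNoetherian Y] [IsProper f] {I : Ideal A} (K : Y.IdealSheafData) {G : ℕᵒᵖ ⥤ Y.Modules} {F : X.Modules}
include hf

/-- A pulled back formal module which is a completion maps to the completion of the direct image, with
kernels and cokernels killed by a power of an ideal sheaf cutting out the complement of an open over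
which `f` is an isomorphism. -/
theorem exists_map_killed (hK : IsIso (f ∣_ K.support.compl)) (hG : _root_.Formal.IsCohFormal I G)
    (hF : Coh.IsCoh F) (b : G ⋙ Scheme.Modules.pullback f ≅ _root_.Formal.completion I F) :
    ∃ α : G ⟶ _root_.Formal.completion I ((Scheme.Modules.pushforward f).obj F),
      Formal2.KerCokerKilledByPow K α := by
  haveI := hK
  haveI := LocallyOfFiniteType.isLocallyNoetherian f
  haveI := hF.1
  haveI hPF : ((PushMap.P f).obj F).IsQuasicoherent := QCoh.Pushforward.isQCoh_pushforward f (M := F)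
  haveI := fun k => Formal.Sys.qcoh hG k
  haveI hQn : ∀ k, ((_root_.Formal.completion I ((PushMap.P f).obj F)).obj (op k)).IsQuasicoherent := fun k =>
    isQCoh_modPow I (k + 1)
  obtain ⟨c, α, hα⟩ := PushMap.exists_map hf hG hF (PushKernel.uMap b.hom)
  refine ⟨α, ?_⟩
  let Good (V : Y.Opens) (N : ℕ) : Prop := ∀ (hV : IsAffineOpen V), ∀ a ∈ K.ideal ⟨V, hV⟩ ^ N, ∀ n,
    (∀ g, (α.app (op n)).app V g = 0 → a • g = 0) ∧ ∀ h, ∃ g, (α.app (op n)).app V g = a • h
  obtain ⟨N, hN⟩ := exists_uniform Good (fun V m n hmn hm hV a ha =>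
    hm hV a (Ideal.pow_le_pow_right hmn ha)) fun V hV => by
      haveI := IsLocallyNoetherian.component_noetherian (X := Y) ⟨V, hV⟩
      let 𝔟 : Ideal Γ(Y, V) :=
        { carrier := {a | ∀ n, (∀ g, (α.app (op n)).app V g = 0 → a • g = 0) ∧
            ∀ h, ∃ g, (α.app (op n)).app V g = a • h}
          add_mem' := fun {a b} ha hb n => ⟨fun g hg => by rw [add_smul, (ha n).1 g hg, (hb n).1 g hg, add_zero],
            fun h => by
              obtain ⟨g, hg⟩ := (ha n).2 h
              obtain ⟨g', hg'⟩ := (hb n).2 h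
              exact ⟨g + g', by rw [map_add, hg, hg', add_smul]⟩⟩
          zero_mem' := fun n => ⟨fun g _ => zero_smul _ g, fun h => ⟨0, by rw [map_zero, zero_smul]⟩⟩
          smul_mem' := fun s a ha n => ⟨fun g hg => by rw [smul_eq_mul, mul_smul, (ha n).1 g hg, smul_zero],
            fun h => by
              obtain ⟨g, hg⟩ := (ha n).2 h
              exact ⟨s • g, by rw [Scheme.Modules.Hom.app_smul, hg, smul_eq_mul, mul_smul]⟩⟩ }
      have hrad : K.ideal ⟨V, hV⟩ ≤ 𝔟.radical := fun r hr => by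
        have hle : Y.basicOpen r ≤ K.support.compl := fun x hx hxs => by
          have h1 : x ∈ ((K.support : Set Y) ∩ V) := ⟨hxs, Y.basicOpen_le r hx⟩
          rw [K.coe_support_inter ⟨V, hV⟩] at h1
          exact (Scheme.mem_zeroLocus_iff _ _ _).1 h1.1 r hr hx
        obtain ⟨t, ht⟩ := PushKernel.exists_pow_local hf hG hF b c α hα hV (O := K.support.compl) r hle
        exact ⟨t, fun n => ht n⟩
      obtain ⟨N, hN⟩ := Ideal.exists_pow_le_of_le_radical_of_fg hrad (IsNoetherian.noetherian _)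
      exact ⟨N, fun _ a ha => hN ha⟩
  refine ⟨N, fun n => ⟨?_, ?_⟩⟩
  · haveI := QCoh.Closure.isQCoh_kernel (α.app (op n))
    refine killedByIdeal_of_cover _ _ fun x => ?_
    obtain ⟨V, hV, hx, hg⟩ := hN x
    refine ⟨V, hV, hx, fun a ha m => QCoh.Closure.sections_injective_of_mono (kernel.ι (α.app (op n))) V ?_⟩
    rw [map_zero, Scheme.Modules.Hom.app_smul]
    rw [Scheme.IdealSheafData.ideal_pow, Pi.pow_apply] at ha
    exact ((hg hV a (Ideal.pow_le_pow_right (Nat.le_succ N) ha)) n).1 _ (kernel_app_eq_zero _ m)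
  · haveI := QCoh.Closure.isQCoh_cokernel (α.app (op n))
    refine killedByIdeal_of_cover _ _ fun x => ?_
    obtain ⟨V, hV, hx, hg⟩ := hN x
    refine ⟨V, hV, hx, fun a ha m => ?_⟩
    rw [Scheme.IdealSheafData.ideal_pow, Pi.pow_apply] at ha
    obtain ⟨h, rfl⟩ := QCoh.Closure.sections_surjective_of_epi (cokernel.π (α.app (op n))) hV m
    obtain ⟨g, hgh⟩ := ((hg hV a (Ideal.pow_le_pow_right (Nat.le_succ N) ha)) n).2 h
    rw [← Scheme.Modules.Hom.app_smul, ← hgh]
    exact app_eq (cokernel.condition (α.app (op n))) V g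

end Groth.Agent.H78.Proper.PushPull
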