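import Groth.Agent.Lib.DescAlg.PbSec
import Groth.Agent.Lib.QCoh.Closure

/-!
# Pulled back sections of modules killed by an ideal
-/

set_option linter.style.haveILetI false
set_option linter.unusedSectionVars false

noncomputable section

universe u

open CategoryTheory Limits AlgebraicGeometry Opposite TopologicalSpace
open ZarCoh.FlatBC.PullbackSections
open scoped TensorProduct

namespace Groth.Agent.H78.Proper.UnitSections

variable {X Y : Scheme.{u}} (f : X ⟶ Y)

/-- Pulled back sections are natural in the module. -/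
lemma map_pbRes {M N : Y.Modules} (φ : M ⟶ N) {U : Y.Opens} {W : X.Opens} (e : W ≤ f ⁻¹ᵁ U) (m : Γ(M, U)) :
    ((Scheme.Modules.pullback f).map φ).app W (pbRes f M e m) = pbRes f N e (φ.app U m) := by
  let ψ := (Scheme.Modules.pullback f).map φ
  let η := (Scheme.Modules.pullbackPushforwardAdjunction f).unit
  refine (ConcreteCategory.congr_hom (ψ.mapPresheaf.naturality (homOfLE e).op) ((η.app M).app U m)).trans ?_
  exact congrArg (((Scheme.Modules.pullback f).obj N).presheaf.map (homOfLE e).op)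
    (ConcreteCategory.congr_hom (congrArg (fun χ => χ.app U) (η.naturality φ)) m).symm

/-- Pulled back sections only depend on the restriction. -/
lemma pbRes_res {M : Y.Modules} {U U' : Y.Opens} (h : U' ≤ U) {W : X.Opens} (e : W ≤ f ⁻¹ᵁ U') (m : Γ(M, U)) :
    pbRes f M e (M.presheaf.map (homOfLE h).op m) = pbRes f M (e.trans (f.preimage_mono h)) m := by
  let η := (Scheme.Modules.pullbackPushforwardAdjunction f).unit
  let P := ((Scheme.Modules.pullback f).obj M).presheaf
  have e1 := ConcreteCategory.congr_hom ((η.app M).mapPresheaf.naturality (homOfLE h).op) m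
  refine (congrArg (P.map (homOfLE e).op) e1).trans ?_
  exact (ConcreteCategory.congr_hom (P.map_comp _ _) _).symm

variable (M : Y.Modules) [M.IsQuasicoherent] {U : Y.Opens} {V : X.Opens}
variable (hU : IsAffineOpen U) (hV : IsAffineOpen V) (e : V ≤ f ⁻¹ᵁ U) (𝔞 : Ideal Γ(Y, U))
variable (hkill : ∀ a ∈ 𝔞, ∀ m : Γ(M, U), a • m = 0)
include hU hV hkill

/-- A retraction modulo an ideal killing the module makes pulling back injective. -/
theorem injective_pbRes (σ : Γ(X, V) →+* Γ(Y, U) ⧸ 𝔞)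
    (hσ : ∀ r, σ (f.appLE U V e r) = Ideal.Quotient.mk 𝔞 r) : Function.Injective (pbRes f M e) := by
  letI := (f.appLE U V e).hom.toAlgebra
  haveI hk : Module.IsTorsionBySet Γ(Y, U) Γ(M, U) 𝔞 := fun m a => hkill a.1 a.2 m
  letI : Module (Γ(Y, U) ⧸ 𝔞) Γ(M, U) := hk.module
  letI : Module Γ(X, V) Γ(M, U) := Module.compHom _ σ
  have hsmul : ∀ (r : Γ(Y, U)) (m : Γ(M, U)), Ideal.Quotient.mk 𝔞 r • m = r • m := fun r m =>
    hk.mk_smul r m
  haveI : IsScalarTower Γ(Y, U) Γ(X, V) Γ(M, U) := IsScalarTower.of_algebraMap_smul fun r m => by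
    show σ (f.appLE U V e r) • m = r • m
    rw [hσ, hsmul]
  let back : Γ(X, V) ⊗[Γ(Y, U)] Γ(M, U) →ₗ[Γ(X, V)] Γ(M, U) :=
    LinearMap.liftBaseChange Γ(X, V) LinearMap.id
  intro m m' hm
  have h1 : (1 : Γ(X, V)) ⊗ₜ[Γ(Y, U)] m = (1 : Γ(X, V)) ⊗ₜ[Γ(Y, U)] m' := by
    refine (bijective_pbTensor f M hU hV e).1 ?_
    rw [pbTensor_tmul, pbTensor_tmul, one_smul, one_smul, hm]
  have h2 := congrArg back h1
  have hb : ∀ x : Γ(M, U), back ((1 : Γ(X, V)) ⊗ₜ[Γ(Y, U)] x) = x := fun x => by
    simp only [back, LinearMap.liftBaseChange_tmul, LinearMap.id_coe, id_eq, one_smul]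
  rwa [hb, hb] at h2

/-- If every function is a pulled back one modulo the ideal, pulling back is surjective. -/
theorem surjective_pbRes
    (hs : ∀ r' : Γ(X, V), ∃ r : Γ(Y, U), r' - f.appLE U V e r ∈ 𝔞.map (f.appLE U V e).hom) :
    Function.Surjective (pbRes f M e) := by
  letI := (f.appLE U V e).hom.toAlgebra
  have h0 : ∀ x ∈ 𝔞.map (f.appLE U V e).hom, ∀ m : Γ(M, U), x • pbRes f M e m = 0 := fun x hx m => by
    have : 𝔞.map (f.appLE U V e).hom ≤ LinearMap.ker
        (LinearMap.toSpanSingleton Γ(X, V) Γ((Scheme.Modules.pullback f).obj M, V) (pbRes f M e m)) :=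
      Ideal.map_le_iff_le_comap.2 fun a ha => by
        show f.appLE U V e a • pbRes f M e m = 0
        rw [← pbRes_smul, hkill a ha, map_zero]
    exact this hx
  intro p
  obtain ⟨z, rfl⟩ := (bijective_pbTensor f M hU hV e).2 p
  induction z using TensorProduct.induction_on with
  | zero => exact ⟨0, by rw [map_zero, map_zero]⟩
  | tmul s m =>
    obtain ⟨r, hr⟩ := hs s
    refine ⟨r • m, ?_⟩
    rw [pbTensor_tmul, pbRes_smul]
    refine (eq_of_sub_eq_zero ?_).symm
    rw [← sub_smul]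
    exact h0 _ hr m
  | add a b ha hb =>
    obtain ⟨a', ha'⟩ := ha
    obtain ⟨b', hb'⟩ := hb
    exact ⟨a' + b', by rw [map_add, map_add, ha', hb']⟩

end Groth.Agent.H78.Proper.UnitSections
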